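import Mathlib

set_option autoImplicit false

namespace Groth.Agent.Helper16.FFW

variable {k V : Type*} [Field k] [AddCommGroup V] [Module k V]

/-- `S/T` has finite dimension `d` (the quotient is written as in the frozen statements). -/
def HasRelDim (T S : Submodule k V) (d : ℕ) : Prop :=
  FiniteDimensional k (↥S ⧸ T.comap S.subtype) ∧ Module.finrank k (↥S ⧸ T.comap S.subtype) = d

/-- The equivalence between `S/T` and the target of a surjective linear map from `S` with kernel `T`. -/
noncomputable def relQuotEquivOfSurjective {W : Type*} [AddCommGroup W] [Module k W]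
    (T S : Submodule k V) (φ : ↥S →ₗ[k] W) (hker : ∀ s : S, φ s = 0 ↔ (s : V) ∈ T)
    (hsurj : Function.Surjective φ) : (↥S ⧸ T.comap S.subtype) ≃ₗ[k] W :=
  have h : LinearMap.ker φ = T.comap S.subtype := by
    ext s
    simp only [LinearMap.mem_ker, Submodule.mem_comap, Submodule.subtype_apply]
    exact hker s
  (Submodule.quotEquivOfEq _ _ h.symm).trans (φ.quotKerEquivOfSurjective hsurj)

theorem hasRelDim_of_surjective {W : Type*} [AddCommGroup W] [Module k W] [FiniteDimensional k W]
    (T S : Submodule k V) (φ : ↥S →ₗ[k] W) (hker : ∀ s : S, φ s = 0 ↔ (s : V) ∈ T)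
    (hsurj : Function.Surjective φ) : HasRelDim T S (Module.finrank k W) := by
  let e := relQuotEquivOfSurjective T S φ hker hsurj
  exact ⟨LinearEquiv.finiteDimensional e.symm, e.finrank_eq⟩

theorem hasRelDim_le_of_ker {W : Type*} [AddCommGroup W] [Module k W] [FiniteDimensional k W]
    (T S : Submodule k V) (φ : ↥S →ₗ[k] W) (hker : ∀ s : S, φ s = 0 ↔ (s : V) ∈ T) :
    ∃ d, d ≤ Module.finrank k W ∧ HasRelDim T S d := by
  let φ' : ↥S →ₗ[k] LinearMap.range φ := φ.rangeRestrict
  have hker' : ∀ s : S, φ' s = 0 ↔ (s : V) ∈ T := by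
    intro s
    rw [← hker s]
    constructor
    · intro h
      have := congrArg Subtype.val h
      simpa [φ'] using this
    · intro h
      apply Subtype.ext
      simpa [φ'] using h
  refine ⟨Module.finrank k (LinearMap.range φ), Submodule.finrank_le _, ?_⟩
  exact hasRelDim_of_surjective T S φ' hker' φ.surjective_rangeRestrict

theorem hasRelDim_self (S : Submodule k V) : HasRelDim S S 0 := by
  have h : S.comap S.subtype = ⊤ := by
    ext s; simp
  unfold HasRelDim
  rw [h]
  have : Subsingleton (↥S ⧸ (⊤ : Submodule k ↥S)) := Submodule.Quotient.subsingleton_iff.mpr rfl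
  exact ⟨inferInstance, Module.finrank_zero_of_subsingleton⟩

theorem HasRelDim.unique {T S : Submodule k V} {a b : ℕ} (h1 : HasRelDim T S a)
    (h2 : HasRelDim T S b) : a = b := h1.2.symm.trans h2.2

/-- Additivity of relative dimension along a chain `T ≤ S ≤ U`. -/
theorem HasRelDim.trans {T S U : Submodule k V} {a b : ℕ} (hTS : T ≤ S) (hSU : S ≤ U)
    (h1 : HasRelDim T S a) (h2 : HasRelDim S U b) : HasRelDim T U (a + b) := by
  obtain ⟨f1, r1⟩ := h1
  obtain ⟨f2, r2⟩ := h2
  set T' : Submodule k ↥U := T.comap U.subtype with hT'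
  set S' : Submodule k ↥U := S.comap U.subtype with hS'
  have hT'S' : T' ≤ S' := Submodule.comap_mono hTS
  -- the factor map U/T' → U/S'
  let ψ : (↥U ⧸ T') →ₗ[k] (↥U ⧸ S') := Submodule.mapQ T' S' LinearMap.id (by simpa using hT'S')
  have hψ : Function.Surjective ψ := by
    intro y
    obtain ⟨u, rfl⟩ := Submodule.mkQ_surjective S' y
    exact ⟨T'.mkQ u, by simp [ψ]⟩
  -- the map S → U/T'
  let χ : ↥S →ₗ[k] (↥U ⧸ T') := T'.mkQ.comp (Submodule.inclusion hSU)
  have hχker : ∀ s : S, χ s = 0 ↔ (s : V) ∈ T := by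
    intro s
    simp only [χ, LinearMap.comp_apply, Submodule.mkQ_apply, Submodule.Quotient.mk_eq_zero]
    rfl
  have hχrange : LinearMap.range χ = LinearMap.ker ψ := by
    ext y
    constructor
    · rintro ⟨s, rfl⟩
      simp only [LinearMap.mem_ker, χ, ψ, LinearMap.comp_apply, Submodule.mkQ_apply,
        Submodule.mapQ_apply, LinearMap.id_apply, Submodule.Quotient.mk_eq_zero]
      exact s.2
    · intro hy
      obtain ⟨u, rfl⟩ := Submodule.mkQ_surjective T' y
      simp only [LinearMap.mem_ker, ψ, Submodule.mkQ_apply, Submodule.mapQ_apply,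
        LinearMap.id_apply, Submodule.Quotient.mk_eq_zero] at hy
      exact ⟨⟨u.1, hy⟩, rfl⟩
  -- S/T ≃ ker ψ
  let χ' : ↥S →ₗ[k] LinearMap.range χ := χ.rangeRestrict
  have hχ'ker : ∀ s : S, χ' s = 0 ↔ (s : V) ∈ T := by
    intro s
    rw [← hχker s]
    constructor
    · intro h
      have := congrArg Subtype.val h
      simpa [χ'] using this
    · intro h
      apply Subtype.ext
      simpa [χ'] using h
  let e1 : (↥S ⧸ T.comap S.subtype) ≃ₗ[k] LinearMap.range χ :=
    relQuotEquivOfSurjective T S χ' hχ'ker χ.surjective_rangeRestrict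
  have fk : FiniteDimensional k (LinearMap.ker ψ) := by
    rw [← hχrange]
    exact LinearEquiv.finiteDimensional e1
  have rk : Module.finrank k (LinearMap.ker ψ) = a := by
    rw [← hχrange, ← e1.finrank_eq, r1]
  -- (U/T')/ker ψ ≃ U/S'
  let e2 : ((↥U ⧸ T') ⧸ LinearMap.ker ψ) ≃ₗ[k] (↥U ⧸ S') := ψ.quotKerEquivOfSurjective hψ
  have fq : FiniteDimensional k ((↥U ⧸ T') ⧸ LinearMap.ker ψ) := LinearEquiv.finiteDimensional e2.symm
  have fU : FiniteDimensional k (↥U ⧸ T') := Module.Finite.of_submodule_quotient (LinearMap.ker ψ)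
  refine ⟨fU, ?_⟩
  have h3 := Submodule.finrank_quotient_add_finrank (LinearMap.ker ψ)
  rw [e2.finrank_eq, r2, rk] at h3
  show Module.finrank k (↥U ⧸ T') = a + b
  omega

theorem HasRelDim.finiteDimensional {T S : Submodule k V} {d : ℕ} (h : HasRelDim T S d) :
    FiniteDimensional k (↥S ⧸ T.comap S.subtype) := h.1

theorem HasRelDim.finrank_eq {T S : Submodule k V} {d : ℕ} (h : HasRelDim T S d) :
    Module.finrank k (↥S ⧸ T.comap S.subtype) = d := h.2

theorem hasRelDim_pi_of_surjective {ι : Type*} [Fintype ι] (T' S' : Submodule k V)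
    (T S : ι → Submodule k V) (d : ι → ℕ) (h : ∀ i, HasRelDim (T i) (S i) (d i))
    (φ : ↥S' →ₗ[k] (∀ i, ↥(S i) ⧸ (T i).comap (S i).subtype))
    (hker : ∀ s : S', φ s = 0 ↔ (s : V) ∈ T') (hsurj : Function.Surjective φ) :
    HasRelDim T' S' (∑ i, d i) := by
  have hfin : ∀ i, Module.Finite k (↥(S i) ⧸ (T i).comap (S i).subtype) := fun i => (h i).1
  have hW : Module.Finite k (∀ i, ↥(S i) ⧸ (T i).comap (S i).subtype) := Module.Finite.pi
  have h1 := hasRelDim_of_surjective T' S' φ hker hsurj
  rw [Module.finrank_pi_fintype] at h1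
  convert h1 using 2 with i
  exact ((h i).2).symm

end Groth.Agent.Helper16.FFW
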