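import Mathlib
import Groth.Agent.Lib.Helper16.FFW.Zeros
import Groth.Agent.Lib.Helper16.FFW.ExistsA

set_option autoImplicit false

namespace Groth.Agent.Helper16.FFW

open FunFld IntermediateField Polynomial
open scoped WithZero

variable {k K : Type*} [Field k] [Field K] [Algebra k K]

section dvr
variable (hK : IsWeakFF k K) (B : ValuationSubring K)
  (hB : ∀ c : k, algebraMap k K c ∈ B)

omit [Algebra k K] in
theorem valSub_le [Algebra k K] (hB : ∀ c : k, algebraMap k K c ∈ B) (c : k) :
    B.valuation (algebraMap k K c) ≤ 1 :=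
  (B.valuation_le_one_iff _).2 (hB c)

include hK hB

/-- values strictly between `v z` and `1` are finite in number -/
theorem finite_values {z : K} (hz : Transcendental k z) (hz1 : B.valuation z ≤ 1) :
    {γ : B.ValueGroup | B.valuation z < γ ∧ γ ≤ 1}.Finite := by
  classical
  by_contra hinf
  have hinf' : {γ : B.ValueGroup | B.valuation z < γ ∧ γ ≤ 1}.Infinite := hinf
  obtain ⟨t, hts, htc⟩ := hinf'.exists_subset_card_eq
    (Module.finrank (IntermediateField.adjoin k ({z} : Set K)) K + 1)
  have hsurj := B.valuation_surjective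
  choose y hy using hsurj
  have := card_le_of_val_injective B.valuation hK (valSub_le B hB) hz hz1
    (ι := t) (fun γ => y γ.1) (fun γ => by rw [hy]; exact (hts γ.2).2)
    (fun γ => by rw [hy]; exact (hts γ.2).1)
    (fun γ δ h => by
      simp only [hy] at h
      exact Subtype.ext h)
  rw [Fintype.card_coe, htc] at this
  omega

theorem transcendental_of_valSub_lt_one {z : K} (hz0 : z ≠ 0) (hz : B.valuation z < 1) :
    Transcendental k z := by
  intro halg
  rw [val_eq_one_of_isAlgebraic' B.valuation (valSub_le B hB) hz0 halg] at hz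
  exact lt_irrefl _ hz

/-- There is a largest value `< 1`. -/
theorem exists_max_value {x : K} (hx : Transcendental k x) (hx1 : B.valuation x < 1) :
    ∃ t : K, B.valuation t < 1 ∧ t ≠ 0 ∧ ∀ y : K, B.valuation y < 1 → B.valuation y ≤ B.valuation t := by
  classical
  have hfin : {γ : B.ValueGroup | B.valuation x ≤ γ ∧ γ < 1}.Finite := by
    refine ((finite_values hK B hB hx hx1.le).insert (B.valuation x)).subset ?_
    rintro γ ⟨h1, h2⟩
    rcases eq_or_lt_of_le h1 with h | h
    · exact Set.mem_insert_iff.2 (Or.inl h.symm)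
    · exact Set.mem_insert_iff.2 (Or.inr ⟨h, h2.le⟩)
  have hne : {γ : B.ValueGroup | B.valuation x ≤ γ ∧ γ < 1}.Nonempty := ⟨_, le_rfl, hx1⟩
  obtain ⟨π, ⟨hπ1, hπ2⟩, hmax⟩ := hfin.exists_maximalFor id _ hne
  obtain ⟨t, rfl⟩ := B.valuation_surjective π
  have hx0 : x ≠ 0 := fun h => hx (h ▸ isAlgebraic_zero)
  refine ⟨t, hπ2, ?_, ?_⟩
  · rintro rfl
    rw [map_zero] at hπ1
    exact hx0 ((Valuation.zero_iff _).1 (le_antisymm hπ1 zero_le))
  · intro y hy
    rcases lt_or_ge (B.valuation y) (B.valuation x) with h | h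
    · exact h.le.trans hπ1
    · by_contra hlt
      push Not at hlt
      exact absurd (hmax ⟨h, hy⟩ hlt.le) (not_le.2 hlt)

theorem exists_pow_eq {t : K} (ht1 : B.valuation t < 1) (ht0 : t ≠ 0)
    (hmax : ∀ y : K, B.valuation y < 1 → B.valuation y ≤ B.valuation t)
    {y : K} (hy0 : y ≠ 0) (hy1 : B.valuation y ≤ 1) :
    ∃ n : ℕ, B.valuation y = B.valuation t ^ n := by
  classical
  rcases eq_or_lt_of_le hy1 with h1 | h1
  · exact ⟨0, by rw [h1, pow_zero]⟩
  have hy := transcendental_of_valSub_lt_one hK B hB hy0 h1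
  have htpos : 0 < B.valuation t := by
    rw [Valuation.pos_iff]; exact ht0
  -- some power of t has value ≤ v y
  have hex : ∃ n : ℕ, B.valuation t ^ n ≤ B.valuation y := by
    by_contra hne
    push Not at hne
    have := card_le_of_val_injective B.valuation hK (valSub_le B hB) hy h1.le
      (ι := Fin (Module.finrank (IntermediateField.adjoin k ({y} : Set K)) K + 1))
      (fun i => t ^ (i : ℕ))
      (fun i => by rw [map_pow]; exact pow_le_one₀ htpos.le ht1.le)
      (fun i => by rw [map_pow]; exact hne i)
      (fun i j h => by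
        simp only [map_pow] at h
        exact Fin.ext ((pow_right_strictAnti₀ htpos ht1).injective h))
    rw [Fintype.card_fin] at this
    omega
  have hn := Nat.find_spec hex
  have hmin := fun m => Nat.find_min hex (m := m)
  set n := Nat.find hex with hn_def
  rcases Nat.eq_zero_or_pos n with h0 | hpos
  · rw [h0, pow_zero] at hn
    exact absurd hn (not_le.2 h1)
  refine ⟨n, le_antisymm ?_ hn⟩
  have hlt : B.valuation y < B.valuation t ^ (n - 1) := by
    have := hmin (n - 1) (by omega)
    exact not_le.1 this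
  have h2 : B.valuation (y / t ^ (n - 1)) < 1 := by
    rw [map_div₀, map_pow]
    exact (div_lt_one₀ (pow_pos htpos _)).2 hlt
  have h3 := hmax _ h2
  rw [map_div₀, map_pow, div_le_iff₀ (pow_pos htpos _), ← pow_succ'] at h3
  rwa [show n - 1 + 1 = n by omega] at h3

end dvr

end Groth.Agent.Helper16.FFW
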