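import Mathlib
import Groth.Agent.Lib.Helper16.FFW.Zeros
import Groth.Agent.Lib.Helper16.FFW.ExistsA
import Groth.Agent.Lib.Helper16.FFW.ExistsB

set_option autoImplicit false

namespace Groth.Agent.Helper16.FFW

open FunFld IntermediateField Polynomial
open scoped WithZero

variable {k K : Type*} [Field k] [Field K] [Algebra k K]

section dvr
variable (hK : IsWeakFF k K) (B : ValuationSubring K)
  (hB : ∀ c : k, algebraMap k K c ∈ B)

include hK hB

theorem isDiscreteValuationRing_of_valuationSubring {x : K} (hx : Transcendental k x)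
    (hx1 : B.valuation x < 1) : IsDiscreteValuationRing B := by
  obtain ⟨t, ht1, ht0, hmax⟩ := exists_max_value hK B hB hx hx1
  have htB : t ∈ B := (B.valuation_le_one_iff t).1 ht1.le
  have htpos : 0 < B.valuation t := by
    rw [Valuation.pos_iff]; exact ht0
  apply IsDiscreteValuationRing.ofHasUnitMulPowIrreducibleFactorization
  refine ⟨⟨t, htB⟩, ?_, ?_⟩
  · rw [irreducible_iff]
    constructor
    · rw [B.valuation_eq_one_iff]
      exact ne_of_lt ht1
    · intro a b hab
      by_contra hne
      push Not at hne
      obtain ⟨ha, hb⟩ := hne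
      rw [B.valuation_eq_one_iff] at ha hb
      have ha1 : B.valuation a < 1 := (B.valuation_lt_one_or_eq_one a).resolve_right ha
      have hb1 : B.valuation b < 1 := (B.valuation_lt_one_or_eq_one b).resolve_right hb
      have hab' : t = (a : K) * (b : K) := congrArg Subtype.val hab
      have ha0 : (a : K) ≠ 0 := by
        rintro h; rw [h, zero_mul] at hab'; exact ht0 hab'
      have hapos : 0 < B.valuation (a : K) := by
        rw [Valuation.pos_iff]; exact ha0
      have h1 := hmax _ ha1
      rw [hab', map_mul] at h1
      have h2 : B.valuation (a : K) * B.valuation (b : K) < B.valuation (a : K) * 1 := by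
        gcongr
      rw [mul_one] at h2
      exact absurd h1 (not_le.2 h2)
  · intro y hy0
    have hy0' : (y : K) ≠ 0 := fun h => hy0 (Subtype.ext h)
    obtain ⟨n, hn⟩ := exists_pow_eq hK B hB ht1 ht0 hmax hy0' (B.valuation_le_one y)
    refine ⟨n, ?_⟩
    rw [← map_pow, B.valuation_eq_iff] at hn
    obtain ⟨u, hu⟩ := hn
    refine ⟨u, Subtype.ext ?_⟩
    rw [mul_comm]
    simpa using hu

end dvr

end Groth.Agent.Helper16.FFW
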