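import Mathlib
import Groth.Agent.Lib.Helper16.FFW.RelDim

set_option autoImplicit false

namespace Groth.Agent.Helper16.FFW

variable {k V : Type*} [Field k] [AddCommGroup V] [Module k V]

theorem hasRelDim_of_equiv {V' : Type*} [AddCommGroup V'] [Module k V']
    {T S : Submodule k V} {T' S' : Submodule k V'}
    (e : (↥S ⧸ T.comap S.subtype) ≃ₗ[k] (↥S' ⧸ T'.comap S'.subtype)) {d : ℕ}
    (h : HasRelDim T S d) : HasRelDim T' S' d := by
  obtain ⟨f, r⟩ := h
  exact ⟨LinearEquiv.finiteDimensional e, by rw [← e.finrank_eq, r]⟩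

/-- general version of `hasRelDim_pi_of_surjective` with local pieces in another space -/
theorem hasRelDim_pi_of_surjective' {V' : Type*} [AddCommGroup V'] [Module k V']
    {ι : Type*} [Fintype ι] (T' S' : Submodule k V)
    (T S : ι → Submodule k V') (d : ι → ℕ) (h : ∀ i, HasRelDim (T i) (S i) (d i))
    (φ : ↥S' →ₗ[k] (∀ i, ↥(S i) ⧸ (T i).comap (S i).subtype))
    (hker : ∀ s : S', φ s = 0 ↔ (s : V) ∈ T') (hsurj : Function.Surjective φ) :
    HasRelDim T' S' (∑ i, d i) := by
  have hfin : ∀ i, Module.Finite k (↥(S i) ⧸ (T i).comap (S i).subtype) := fun i => (h i).1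
  have hW : Module.Finite k (∀ i, ↥(S i) ⧸ (T i).comap (S i).subtype) := Module.Finite.pi
  have h1 := hasRelDim_of_surjective T' S' φ hker hsurj
  rw [Module.finrank_pi_fintype] at h1
  convert h1 using 2 with i
  exact ((h i).2).symm

/-- Second isomorphism theorem in terms of `HasRelDim`. -/
theorem hasRelDim_inf_sup (A B : Submodule k V) {d : ℕ} :
    HasRelDim (A ⊓ B) A d ↔ HasRelDim B (A ⊔ B) d := by
  let φ : ↥A →ₗ[k] (↥(A ⊔ B) ⧸ B.comap (A ⊔ B).subtype) :=
    (Submodule.mkQ _).comp (Submodule.inclusion le_sup_left)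
  have hker : ∀ s : A, φ s = 0 ↔ (s : V) ∈ A ⊓ B := by
    intro s
    simp only [φ, LinearMap.comp_apply, Submodule.mkQ_apply, Submodule.Quotient.mk_eq_zero,
      Submodule.mem_comap, Submodule.subtype_apply, Submodule.mem_inf]
    constructor
    · intro h; exact ⟨s.2, h⟩
    · intro h; exact h.2
  have hsurj : Function.Surjective φ := by
    intro y
    obtain ⟨⟨u, hu⟩, rfl⟩ := Submodule.mkQ_surjective _ y
    obtain ⟨a, ha, b, hb, rfl⟩ := Submodule.mem_sup.1 hu
    refine ⟨⟨a, ha⟩, ?_⟩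
    simp only [φ, LinearMap.comp_apply, Submodule.mkQ_apply]
    rw [Submodule.Quotient.eq]
    simp only [Submodule.mem_comap, Submodule.subtype_apply]
    show a - (a + b) ∈ B
    simpa using B.neg_mem hb
  let e := relQuotEquivOfSurjective (A ⊓ B) A φ hker hsurj
  exact ⟨hasRelDim_of_equiv e, hasRelDim_of_equiv e.symm⟩

/-- Splitting a finite relative dimension along an intermediate submodule. -/
theorem HasRelDim.split {T M S : Submodule k V} {a : ℕ} (hTM : T ≤ M) (hMS : M ≤ S)
    (h : HasRelDim T S a) : ∃ b c, b + c = a ∧ HasRelDim T M b ∧ HasRelDim M S c := by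
  have hf := h.1
  let χ : ↥M →ₗ[k] (↥S ⧸ T.comap S.subtype) := (Submodule.mkQ _).comp (Submodule.inclusion hMS)
  have hχker : ∀ s : M, χ s = 0 ↔ (s : V) ∈ T := by
    intro s
    simp only [χ, LinearMap.comp_apply, Submodule.mkQ_apply, Submodule.Quotient.mk_eq_zero]
    rfl
  obtain ⟨b, -, hb⟩ := hasRelDim_le_of_ker T M χ hχker
  let ψ : (↥S ⧸ T.comap S.subtype) →ₗ[k] (↥S ⧸ M.comap S.subtype) :=
    Submodule.mapQ (T.comap S.subtype) (M.comap S.subtype) LinearMap.id
      (by simpa using (Submodule.comap_mono hTM : T.comap S.subtype ≤ M.comap S.subtype))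
  have hψ : Function.Surjective ψ := by
    intro y
    obtain ⟨u, rfl⟩ := Submodule.mkQ_surjective _ y
    exact ⟨Submodule.mkQ _ u, by simp [ψ]⟩
  have hfin : FiniteDimensional k (↥S ⧸ M.comap S.subtype) := Module.Finite.of_surjective ψ hψ
  have hc : HasRelDim M S (Module.finrank k (↥S ⧸ M.comap S.subtype)) := ⟨hfin, rfl⟩
  exact ⟨b, _, (hb.trans hTM hMS hc).unique h, hb, hc⟩

/-- dimension formula for `(S+W)/(T+W)` -/
theorem HasRelDim.sup_right {T S W : Submodule k V} {a b : ℕ} (hTS : T ≤ S)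
    (h : HasRelDim T S a) (hW : HasRelDim (T ⊓ W) (S ⊓ W) b) :
    HasRelDim (T ⊔ W) (S ⊔ W) (a - b) ∧ b ≤ a := by
  -- T ≤ T ⊔ (S ⊓ W) ≤ S
  have e1 : (S ⊓ W) ⊓ T = T ⊓ W := by
    rw [inf_comm, ← inf_assoc, inf_eq_left.2 hTS]
  have h1 : HasRelDim T ((S ⊓ W) ⊔ T) b := by
    rw [← hasRelDim_inf_sup, e1]; exact hW
  have hM1 : T ≤ (S ⊓ W) ⊔ T := le_sup_right
  have hM2 : (S ⊓ W) ⊔ T ≤ S := sup_le inf_le_left hTS
  obtain ⟨b', c, hbc, hb', hc⟩ := h.split hM1 hM2
  have hbb : b' = b := hb'.unique h1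
  subst hbb
  have e2 : S ⊓ (T ⊔ W) = (S ⊓ W) ⊔ T := by
    rw [inf_comm, sup_inf_assoc_of_le W hTS, sup_comm, inf_comm]
  have e3 : S ⊔ (T ⊔ W) = S ⊔ W := by
    rw [← sup_assoc, sup_eq_left.2 hTS]
  have h2 : HasRelDim (T ⊔ W) (S ⊔ (T ⊔ W)) c := by
    rw [← hasRelDim_inf_sup, e2]; exact hc
  rw [e3] at h2
  refine ⟨?_, by omega⟩
  have : a - b' = c := by omega
  rw [this]; exact h2

/-- If `T ≤ S`, `T` is finite-dimensional and `S/T` is finite-dimensional then so is `S`. -/
theorem HasRelDim.finrank_add {T S : Submodule k V} {d : ℕ} (hTS : T ≤ S) (h : HasRelDim T S d)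
    [FiniteDimensional k T] :
    FiniteDimensional k S ∧ Module.finrank k S = Module.finrank k T + d := by
  obtain ⟨f, r⟩ := h
  let e : ↥(T.comap S.subtype) ≃ₗ[k] ↥T := Submodule.comapSubtypeEquivOfLe hTS
  have f1 : FiniteDimensional k ↥(T.comap S.subtype) := LinearEquiv.finiteDimensional e.symm
  have f2 : FiniteDimensional k S := Module.Finite.of_submodule_quotient (T.comap S.subtype)
  refine ⟨f2, ?_⟩
  have h3 := Submodule.finrank_quotient_add_finrank (T.comap S.subtype)
  rw [r, e.finrank_eq] at h3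
  omega

/-- Transport of relative dimension along an injective linear map. -/
theorem HasRelDim.map {V' : Type*} [AddCommGroup V'] [Module k V'] (f : V →ₗ[k] V')
    (hf : Function.Injective f) {T S : Submodule k V} {d : ℕ} (h : HasRelDim T S d) :
    HasRelDim (T.map f) (S.map f) d := by
  let g : ↥S →ₗ[k] ↥(S.map f) := f.submoduleMap S
  have hg : Function.Surjective g := f.submoduleMap_surjective S
  let φ : ↥S →ₗ[k] (↥(S.map f) ⧸ (T.map f).comap (S.map f).subtype) := (Submodule.mkQ _).comp g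
  have hker : ∀ s : S, φ s = 0 ↔ (s : V) ∈ T := by
    intro s
    simp only [φ, LinearMap.comp_apply, Submodule.mkQ_apply, Submodule.Quotient.mk_eq_zero,
      Submodule.mem_comap, Submodule.subtype_apply]
    show f s ∈ T.map f ↔ _
    constructor
    · rintro ⟨t, ht, hts⟩
      rw [← hf hts]; exact ht
    · intro hs; exact ⟨_, hs, rfl⟩
  have hsurj : Function.Surjective φ := (Submodule.mkQ_surjective _).comp hg
  exact hasRelDim_of_equiv (relQuotEquivOfSurjective T S φ hker hsurj) h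

end Groth.Agent.Helper16.FFW
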