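import Mathlib
import Groth.Agent.Lib.Helper16.FFW.Adele

set_option autoImplicit false

namespace Groth.Agent.Helper16.FFW

open FunFld
open scoped WithZero

variable {k K : Type*} [Field k] [Field K] [Algebra k K]

theorem diag_apply (x : K) (P : Place k K) : diag k K x P = x := rfl

theorem diag_mem_AD (D : Divisor k K) (x : K) : diag k K x ∈ AD D ↔ x ∈ L D := Iff.rfl

/-- `dim L(D₂)/L(D₁) ≤ deg D₂ - deg D₁`. -/
theorem exists_hasRelDim_L (hK : IsWeakFF k K) {D₁ D₂ : Divisor k K} (h : D₁ ≤ D₂) :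
    ∃ d, d ≤ (D₂.deg - D₁.deg).toNat ∧ HasRelDim (L D₁) (L D₂) d := by
  have hA := hasRelDim_AD hK h
  have hf := hA.1
  let φ : ↥(L D₂) →ₗ[k] (↥(AD D₂) ⧸ (AD D₁).comap (AD D₂).subtype) :=
    (Submodule.mkQ _).comp (((diag k K).comp (L D₂).subtype).codRestrict (AD D₂) (fun x => x.2))
  have hker : ∀ x : ↥(L D₂), φ x = 0 ↔ (x : K) ∈ L D₁ := by
    intro x
    simp only [φ, LinearMap.comp_apply, Submodule.mkQ_apply, Submodule.Quotient.mk_eq_zero,
      Submodule.mem_comap, Submodule.subtype_apply]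
    rfl
  obtain ⟨d, hd, hd'⟩ := hasRelDim_le_of_ker (L D₁) (L D₂) φ hker
  exact ⟨d, by rw [← hA.2]; exact hd, hd'⟩

theorem exists_place' (hK : IsWeakFF k K) : Nonempty (Place k K) := by
  obtain ⟨x, hx, -⟩ := id hK
  obtain ⟨P, -⟩ := exists_zero hK hx
  exact ⟨P⟩

theorem L_neg_single_eq_bot (hK : IsWeakFF k K) (P : Place k K) :
    L (-(Finsupp.single P 1 : Divisor k K)) = ⊥ := by
  rw [eq_bot_iff]
  intro x hx
  rw [Submodule.mem_bot]
  by_contra hx0
  have hP : P.1 x < 1 := by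
    have := hx P
    rw [Finsupp.neg_apply, Finsupp.single_eq_same] at this
    exact lt_of_le_of_lt this (by rw [← WithZero.exp_zero, WithZero.exp_lt_exp]; norm_num)
  have htr : Transcendental k x := Place.transcendental_of_val_ne_one hK P hx0 hP.ne
  obtain ⟨Q, hQ⟩ := exists_pole hK htr
  have h1 := hx Q
  have h2 : (-(Finsupp.single P 1 : Divisor k K)) Q ≤ 0 := by
    classical
    rw [Finsupp.neg_apply, Finsupp.single_apply]
    split_ifs <;> simp
  have h3 : Q.1 x ≤ 1 := h1.trans (by rw [← WithZero.exp_zero, WithZero.exp_le_exp]; exact h2)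
  exact absurd h3 (not_le.2 hQ)

theorem finiteDimensional_L_zero (hK : IsWeakFF k K) :
    FiniteDimensional k (L (0 : Divisor k K)) := by
  obtain ⟨P⟩ := exists_place' hK
  have h : (-(Finsupp.single P 1 : Divisor k K)) ≤ 0 := by
    classical
    intro Q
    rw [Finsupp.neg_apply, Finsupp.single_apply]
    split_ifs <;> simp
  obtain ⟨d, -, hd⟩ := exists_hasRelDim_L hK h
  have hfd : FiniteDimensional k (L (-(Finsupp.single P 1 : Divisor k K))) := by
    rw [L_neg_single_eq_bot hK P]; infer_instance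
  exact (hd.finrank_add (L_mono h)).1

theorem finiteDimensional_L (hK : IsWeakFF k K) (D : Divisor k K) :
    FiniteDimensional k (L D) := by
  have h0 : (0 : Divisor k K) ≤ D ⊔ 0 := le_sup_right
  obtain ⟨d, -, hd⟩ := exists_hasRelDim_L hK h0
  have := finiteDimensional_L_zero hK
  have := (hd.finrank_add (L_mono h0)).1
  exact Submodule.finiteDimensional_of_le (L_mono (le_sup_left : D ≤ D ⊔ 0))

theorem ell_sub_le (hK : IsWeakFF k K) {D₁ D₂ : Divisor k K} (h : D₁ ≤ D₂) :
    (ell D₂ : ℤ) - ell D₁ ≤ D₂.deg - D₁.deg := by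
  obtain ⟨d, hd, hd'⟩ := exists_hasRelDim_L hK h
  have := finiteDimensional_L hK D₁
  have h2 := (hd'.finrank_add (L_mono h)).2
  have h3 := Divisor.deg_mono h
  unfold ell
  rw [h2]
  push_cast
  have : (d : ℤ) ≤ D₂.deg - D₁.deg := by
    have := Int.toNat_of_nonneg (show (0 : ℤ) ≤ D₂.deg - D₁.deg by omega)
    omega
  omega

theorem ell_mono (hK : IsWeakFF k K) {D₁ D₂ : Divisor k K} (h : D₁ ≤ D₂) :
    ell D₁ ≤ ell D₂ := by
  have := finiteDimensional_L hK D₂
  exact Submodule.finrank_mono (L_mono h)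

theorem ell_le_deg_add_ell_zero (hK : IsWeakFF k K) {D : Divisor k K} (hD : 0 ≤ D) :
    (ell D : ℤ) ≤ D.deg + ell (0 : Divisor k K) := by
  have := ell_sub_le hK hD
  rw [Divisor.deg_zero] at this
  omega

end Groth.Agent.Helper16.FFW
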