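import Mathlib
import Groth.Agent.Lib.Helper16.FFW.Div

set_option autoImplicit false

namespace Groth.Agent.Helper16.FFW

open FunFld IntermediateField Polynomial
open scoped WithZero

variable {k K : Type*} [Field k] [Field K] [Algebra k K]

theorem deg_zeroDiv_le (hK : IsWeakFF k K) {x : K} (hx : Transcendental k x) :
    (zeroDiv x : Divisor k K).deg ≤ Module.finrank (IntermediateField.adjoin k ({x} : Set K)) K := by
  classical
  have hx0 : x ≠ 0 := fun h => hx (h ▸ isAlgebraic_zero)
  set s := (zeroDiv x : Divisor k K).support with hs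
  have hz : ∀ P : ↥s, (P : Place k K).1 x < 1 := by
    intro P
    have h1 := Finsupp.mem_support_iff.1 P.2
    rw [zeroDiv_apply hK] at h1
    rw [Place.val_lt_one_iff _ hx0]
    by_contra hle
    exact h1 (max_eq_right (by omega))
  have h1 := sum_ord_mul_deg_le hK hx (fun P : ↥s => (P : Place k K)) Subtype.val_injective hz
  rw [Divisor.deg_eq_sum _ s (le_refl _)]
  have h2 : ∑ P ∈ s, (zeroDiv x : Divisor k K) P * (P.deg : ℤ) =
      ((∑ P : ↥s, ((P : Place k K).ord x).toNat * (P : Place k K).deg : ℕ) : ℤ) := by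
    rw [Finset.sum_coe_sort s (fun P => (P.ord x).toNat * P.deg)]
    push_cast
    refine Finset.sum_congr rfl fun P _ => ?_
    rw [zeroDiv_apply hK]
    congr 1
    rcases le_total (P.ord x) 0 with h | h
    · rw [max_eq_right h, Int.toNat_of_nonpos h]; rfl
    · rw [max_eq_left h, Int.toNat_of_nonneg h]
  rw [h2]
  exact_mod_cast h1

theorem linearIndependent_pow_of_transcendental {A : Type*} [Ring A] [Algebra k A] {y : A}
    (hy : Transcendental k y) : LinearIndependent k (fun i : ℕ => y ^ i) := by
  have h1 : LinearIndependent k (fun i : ℕ => (Polynomial.X : k[X]) ^ i) := by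
    have := (Polynomial.basisMonomials k).linearIndependent
    simpa [Polynomial.coe_basisMonomials, ← Polynomial.X_pow_eq_monomial] using this
  have h2 := h1.map' (Polynomial.aeval y).toLinearMap
    (LinearMap.ker_eq_bot.2 (transcendental_iff_injective.1 hy))
  have e : ((Polynomial.aeval y).toLinearMap ∘ fun i : ℕ => (Polynomial.X : k[X]) ^ i) =
      fun i : ℕ => y ^ i := by
    funext i; simp
  rw [← e]; exact h2

theorem val_pow_mul_le (hK : IsWeakFF k K) (x u : K) (C : Divisor k K) (hu : u ∈ L C)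
    {i l : ℕ} (hil : i ≤ l) : x ^ i * u ∈ L (l • (poleDiv x : Divisor k K) + C) := by
  intro P
  rw [map_mul, map_pow, Finsupp.add_apply, Finsupp.smul_apply, WithZero.exp_add]
  have h1 : P.1 x ≤ WithZero.exp ((poleDiv x : Divisor k K) P) := mem_L_poleDiv hK x P
  have h2 : (1 : ℤᵐ⁰) ≤ WithZero.exp ((poleDiv x : Divisor k K) P) := by
    rw [← WithZero.exp_zero]; exact WithZero.exp_le_exp.2 (poleDiv_nonneg x P)
  have h3 : P.1 x ^ i ≤ WithZero.exp (l • (poleDiv x : Divisor k K) P) := by
    rw [WithZero.exp_nsmul]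
    calc P.1 x ^ i ≤ WithZero.exp ((poleDiv x : Divisor k K) P) ^ i := pow_le_pow_left₀ zero_le h1 i
      _ ≤ WithZero.exp ((poleDiv x : Divisor k K) P) ^ l := pow_le_pow_right₀ h2 hil
  exact mul_le_mul' h3 (hu P)

end Groth.Agent.Helper16.FFW
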