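import Mathlib
import Groth.Agent.Lib.Helper16.FFW.Div
import Groth.Agent.Lib.Helper16.FFW.DegA

set_option autoImplicit false

namespace Groth.Agent.Helper16.FFW

open FunFld IntermediateField Polynomial
open scoped WithZero

variable {k K : Type*} [Field k] [Field K] [Algebra k K]

/-- There is an effective divisor `C` such that `ℓ(l (x)_∞ + C) ≥ (l+1) [K : k(x)]` for all `l`. -/
theorem exists_large_ell (hK : IsWeakFF k K) {x : K} (hx : Transcendental k x) :
    ∃ C : Divisor k K, 0 ≤ C ∧ ∀ l : ℕ,
      (l + 1) * Module.finrank (IntermediateField.adjoin k ({x} : Set K)) K ≤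
        ell (l • (poleDiv x : Divisor k K) + C) := by
  classical
  have hfin := finite_of_transcendental hK hx
  set n := Module.finrank (IntermediateField.adjoin k ({x} : Set K)) K with hn
  set B : Divisor k K := poleDiv x with hB
  let u := Module.finBasis (IntermediateField.adjoin k ({x} : Set K)) K
  let C : Divisor k K := ∑ j, poleDiv (u j)
  have hC0 : 0 ≤ C := Finset.sum_nonneg fun j _ => poleDiv_nonneg _
  have huC : ∀ j, u j ∈ L C := fun j =>
    L_mono (Finset.single_le_sum (f := fun j => (poleDiv (u j) : Divisor k K))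
      (fun i _ => poleDiv_nonneg _) (Finset.mem_univ j)) (mem_L_poleDiv hK (u j))
  refine ⟨C, hC0, ?_⟩
  intro l
  let g : IntermediateField.adjoin k ({x} : Set K) := AdjoinSimple.gen k x
  have hg : Transcendental k g := by
    have h1 : algebraMap (IntermediateField.adjoin k ({x} : Set K)) K g = x :=
      AdjoinSimple.algebraMap_gen k x
    rw [← transcendental_algebraMap_iff
      (algebraMap (IntermediateField.adjoin k ({x} : Set K)) K).injective, h1]
    exact hx
  have hb : LinearIndependent k (fun i : Fin (l + 1) => g ^ (i : ℕ)) :=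
    (linearIndependent_pow_of_transcendental hg).comp _ Fin.val_injective
  have hli := linearIndependent_smul hb u.linearIndependent
  have hmem : ∀ p : Fin (l + 1) × Fin n, g ^ (p.1 : ℕ) • u p.2 ∈ L (l • B + C) := by
    intro p
    have : g ^ (p.1 : ℕ) • u p.2 = x ^ (p.1 : ℕ) * u p.2 := by
      rw [Algebra.smul_def, map_pow, AdjoinSimple.algebraMap_gen]
    rw [this]
    exact val_pow_mul_le hK x (u p.2) C (huC p.2) (by have := p.1.2; omega)
  have h1 := finrank_span_eq_card hli
  have hle : Submodule.span k (Set.range fun p : Fin (l + 1) × Fin n => g ^ (p.1 : ℕ) • u p.2) ≤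
      L (l • B + C) := Submodule.span_le.2 (Set.range_subset_iff.2 hmem)
  have := finiteDimensional_L hK (l • B + C)
  have h2 := Submodule.finrank_mono hle
  rw [h1, Fintype.card_prod, Fintype.card_fin, Fintype.card_fin] at h2
  exact h2

theorem le_deg_poleDiv (hK : IsWeakFF k K) {x : K} (hx : Transcendental k x) :
    (Module.finrank (IntermediateField.adjoin k ({x} : Set K)) K : ℤ) ≤
      (poleDiv x : Divisor k K).deg := by
  classical
  have hfin := finite_of_transcendental hK hx
  obtain ⟨C, hC0, key⟩ := exists_large_ell hK hx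
  set n := Module.finrank (IntermediateField.adjoin k ({x} : Set K)) K with hn
  set B : Divisor k K := poleDiv x with hB
  have up : ∀ l : ℕ, (ell (l • B + C) : ℤ) ≤ l * B.deg + C.deg + ell (0 : Divisor k K) := by
    intro l
    have := ell_le_deg_add_ell_zero hK (D := l • B + C)
      (add_nonneg (nsmul_nonneg (poleDiv_nonneg x) l) hC0)
    rwa [Divisor.deg_add, Divisor.deg_nsmul] at this
  by_contra hlt
  push Not at hlt
  have hCdeg : 0 ≤ C.deg := by
    have := Divisor.deg_mono hC0; rwa [Divisor.deg_zero] at this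
  set l₀ : ℕ := C.deg.toNat + ell (0 : Divisor k K) + 1 with hl₀
  have h1 := key l₀
  have h2 := up l₀
  have h3 : ((C.deg.toNat : ℕ) : ℤ) = C.deg := Int.toNat_of_nonneg hCdeg
  have h4 : (((l₀ + 1) * n : ℕ) : ℤ) ≤ (l₀ : ℤ) * B.deg + C.deg + ell (0 : Divisor k K) :=
    (Int.ofNat_le.2 h1).trans h2
  push_cast at h4
  have hnpos : 0 < n := Module.finrank_pos
  have hl₀' : (l₀ : ℤ) = C.deg + ell (0 : Divisor k K) + 1 := by
    rw [hl₀]; push_cast; rw [h3]
  have h5 : (l₀ : ℤ) * B.deg ≤ (l₀ : ℤ) * ((n : ℤ) - 1) :=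
    mul_le_mul_of_nonneg_left (by omega) (by omega)
  have h6 : (0 : ℤ) < n := by exact_mod_cast hnpos
  nlinarith

end Groth.Agent.Helper16.FFW
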