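import Mathlib
import Groth.Agent.Lib.Helper16.FFW.Deg
import Groth.Prelude.Def_W4bk4goldsch23Ext

set_option autoImplicit false

namespace Groth.Agent.Helper16.FFW

open FunFld IntermediateField
open scoped WithZero

variable {k K K' : Type*} [Field k] [Field K] [Field K'] [Algebra k K] [Algebra K K'] [Algebra k K']
  [IsScalarTower k K K']

section
variable (k K K')

/-- the inclusion `K → K'` as a `k`-algebra map -/
noncomputable abbrev incl : K →ₐ[k] K' := IsScalarTower.toAlgHom k K K'

end

theorem adjoin_map_incl (x : K) :
    (IntermediateField.adjoin k ({x} : Set K)).map (incl k K K') =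
      IntermediateField.adjoin k ({algebraMap K K' x} : Set K') := by
  rw [IntermediateField.adjoin_map]
  simp

/-- `k(x) ≃ k(x')` -/
noncomputable def adjoinEquiv (x : K) :
    IntermediateField.adjoin k ({x} : Set K) ≃ₐ[k]
      IntermediateField.adjoin k ({algebraMap K K' x} : Set K') :=
  ((IntermediateField.adjoin k ({x} : Set K)).equivMap (incl k K K')).trans
    (IntermediateField.equivOfEq (adjoin_map_incl x))

theorem adjoinEquiv_apply (x : K) (a : IntermediateField.adjoin k ({x} : Set K)) :
    ((adjoinEquiv (K' := K') x a : IntermediateField.adjoin k ({algebraMap K K' x} : Set K')) : K') =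
      algebraMap K K' (a : K) := rfl

theorem finrank_adjoin_incl [FiniteDimensional K K'] (x : K) :
    Module.finrank (IntermediateField.adjoin k ({algebraMap K K' x} : Set K')) K' =
      Module.finrank (IntermediateField.adjoin k ({x} : Set K)) K * Module.finrank K K' := by
  rw [Module.finrank_mul_finrank (IntermediateField.adjoin k ({x} : Set K)) K K']
  symm
  refine Algebra.finrank_eq_of_equiv_equiv (adjoinEquiv (K' := K') x).toRingEquiv (RingEquiv.refl K') ?_
  ext a
  rfl

theorem finite_adjoin_incl [FiniteDimensional K K'] (x : K)
    [FiniteDimensional (IntermediateField.adjoin k ({x} : Set K)) K] :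
    FiniteDimensional (IntermediateField.adjoin k ({algebraMap K K' x} : Set K')) K' := by
  have : Module.Finite (IntermediateField.adjoin k ({x} : Set K)) K' :=
    Module.Finite.trans K K'
  refine Module.Finite.of_equiv_equiv (adjoinEquiv (K' := K') x).toRingEquiv (RingEquiv.refl K') ?_
  ext a
  rfl

theorem isWeakFF_of_finite [FiniteDimensional K K'] (hK : IsWeakFF k K) : IsWeakFF k K' := by
  obtain ⟨x, hx, hfin⟩ := hK
  refine ⟨algebraMap K K' x, ?_, finite_adjoin_incl x⟩
  exact (transcendental_algebraMap_iff (algebraMap K K').injective).2 hx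

end Groth.Agent.Helper16.FFW
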