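import Mathlib
import Groth.Agent.Lib.Helper16.FFW.Ext1

set_option autoImplicit false

namespace Groth.Agent.Helper16.FFW

open FunFld IntermediateField
open scoped WithZero

variable {k K K' : Type*} [Field k] [Field K] [Field K'] [Algebra k K] [Algebra K K'] [Algebra k K']
  [IsScalarTower k K K']

omit [IsScalarTower k K K'] in
theorem isOverWith_pos {Q : Place k K'} {P : Place k K} {e : ℕ} (h : IsOverWith Q P e) : 0 < e := by
  by_contra h0
  have he : e = 0 := by omega
  have := h 0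
  rw [he, pow_zero, map_zero, map_zero] at this
  exact zero_ne_one this

omit [IsScalarTower k K K'] in
theorem isOverWith_le_one_iff {Q : Place k K'} {P : Place k K} {e : ℕ} (h : IsOverWith Q P e)
    (y : K) : Q.1 (algebraMap K K' y) ≤ 1 ↔ P.1 y ≤ 1 := by
  rw [h y]
  exact pow_le_one_iff_of_nonneg zero_le (isOverWith_pos h).ne'

omit [IsScalarTower k K K'] in
theorem isOverWith_lt_one_iff {Q : Place k K'} {P : Place k K} {e : ℕ} (h : IsOverWith Q P e)
    (y : K) : Q.1 (algebraMap K K' y) < 1 ↔ P.1 y < 1 := by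
  rw [h y]
  exact pow_lt_one_iff_of_nonneg zero_le (isOverWith_pos h).ne'

theorem Place.eq_of_le_one_imp {P P' : Place k K} (h : ∀ y, P.1 y ≤ 1 → P'.1 y ≤ 1) : P = P' := by
  by_contra hne
  obtain ⟨y, hy1, hy2⟩ := Place.exists_le_one_lt P P' hne
  exact absurd (h y hy1) (not_le.2 hy2)

theorem isOverWith_unique {Q : Place k K'} {P P' : Place k K} {e e' : ℕ} (h : IsOverWith Q P e)
    (h' : IsOverWith Q P' e') : P = P' ∧ e = e' := by
  have hPP : P = P' := Place.eq_of_le_one_imp fun y hy => (isOverWith_le_one_iff h' y).1 ((isOverWith_le_one_iff h y).2 hy)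
  subst hPP
  refine ⟨rfl, ?_⟩
  obtain ⟨t, ht⟩ := Place.exists_uniformizer P
  have h1 := h t
  have h2 := h' t
  rw [h1, ht, ← WithZero.exp_nsmul, ← WithZero.exp_nsmul, WithZero.exp_inj] at h2
  simpa using h2


/-- every place of `K'` lies over a place of `K` -/
theorem exists_isOverWith [FiniteDimensional K K'] (hK : IsWeakFF k K) (Q : Place k K') :
    ∃ (P : Place k K) (e : ℕ), IsOverWith Q P e := by
  classical
  set w : Valuation K ℤᵐ⁰ := Q.1.comap (algebraMap K K') with hw
  have hwk : ∀ c : k, w (algebraMap k K c) ≤ 1 := by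
    intro c
    show Q.1 (algebraMap K K' (algebraMap k K c)) ≤ 1
    rw [← IsScalarTower.algebraMap_apply]
    exact Q.2.1 c
  -- `w` is nontrivial
  obtain ⟨c, hc⟩ : ∃ c : K, 1 < w c := by
    by_contra hcon
    push Not at hcon
    obtain ⟨z, hz⟩ := Q.2.2 (WithZero.exp (-1 : ℤ))
    have hz0 : z ≠ 0 := by
      rintro rfl; rw [map_zero] at hz; exact WithZero.exp_ne_zero.symm hz
    have halg : IsAlgebraic K z := Algebra.IsAlgebraic.isAlgebraic z
    have := val_eq_one_of_isAlgebraic' (k := K) Q.1 hcon hz0 halg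
    rw [this, ← WithZero.exp_zero, WithZero.exp_inj] at hz
    omega
  have hc0 : c ≠ 0 := by
    rintro rfl; rw [map_zero] at hc; exact absurd hc (by simp)
  have hx1 : w c⁻¹ < 1 := by
    rw [map_inv₀]
    exact inv_lt_one_of_one_lt₀ hc
  have hxtr : Transcendental k c⁻¹ := by
    intro halg
    have := val_eq_one_of_isAlgebraic' w hwk (inv_ne_zero hc0) halg
    rw [this] at hx1
    exact lt_irrefl _ hx1
  set B := w.valuationSubring with hB
  have hBk : ∀ c : k, algebraMap k K c ∈ B := fun c => hwk c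
  have hBw : ∀ y : K, B.valuation y < 1 ↔ w y < 1 := fun y =>
    ((Valuation.isEquiv_valuation_valuationSubring w).lt_one_iff_lt_one).symm
  obtain ⟨P, hP1, hP2⟩ := exists_place_of_valuationSubring hK B hBk hxtr ((hBw _).2 hx1)
  have hP1' : ∀ y : K, P.1 y ≤ 1 ↔ w y ≤ 1 := fun y => hP1 y
  have hP2' : ∀ y : K, P.1 y < 1 ↔ w y < 1 := fun y => (hP2 y).trans (hBw y)
  have hunit : ∀ u : K, P.1 u = 1 → w u = 1 := by
    intro u hu
    have hu0 : u ≠ 0 := by
      rintro rfl; rw [map_zero] at hu; exact zero_ne_one hu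
    have h1 : w u ≤ 1 := (hP1' u).1 hu.le
    have h2 : w u⁻¹ ≤ 1 := (hP1' u⁻¹).1 (by rw [map_inv₀, hu, inv_one])
    rw [map_inv₀] at h2
    have hpos : 0 < w u := by rw [Valuation.pos_iff]; exact hu0
    exact le_antisymm h1 ((inv_le_one₀ hpos).1 h2)
  obtain ⟨t, ht⟩ := Place.exists_uniformizer P
  have ht0 : t ≠ 0 := by
    rintro rfl; rw [map_zero] at ht; exact WithZero.exp_ne_zero.symm ht
  have hwt : w t < 1 := (hP2' t).1 (by
    rw [ht, ← WithZero.exp_zero, WithZero.exp_lt_exp]; norm_num)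
  have hwt0 : w t ≠ 0 := by rw [Ne, map_eq_zero]; exact ht0
  -- `w t = exp (-e)`
  set e : ℕ := (-WithZero.log (w t)).toNat with he
  have hlog : WithZero.log (w t) < 0 := by
    rw [← WithZero.exp_log hwt0, ← WithZero.exp_zero, WithZero.exp_lt_exp] at hwt
    exact hwt
  have hwte : w t = WithZero.exp (-(e : ℤ)) := by
    rw [he, Int.toNat_of_nonneg (by omega), neg_neg, WithZero.exp_log hwt0]
  refine ⟨P, e, fun y => ?_⟩
  show w y = P.1 y ^ e
  by_cases hy0 : y = 0
  · have he0 : e ≠ 0 := by rw [he]; omega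
    rw [hy0, map_zero, map_zero, zero_pow he0]
  set n : ℤ := P.ord y with hn
  have hu : P.1 (y / t ^ n) = 1 := by
    rw [map_div₀, map_zpow₀, ht, Place.val_eq_exp_neg_ord P hy0, ← WithZero.exp_zsmul,
      smul_eq_mul, mul_neg, mul_one]
    exact div_self WithZero.exp_ne_zero
  have hwu := hunit _ hu
  rw [map_div₀, map_zpow₀, div_eq_one_iff_eq (zpow_ne_zero _ hwt0)] at hwu
  rw [hwu, hwte, Place.val_eq_exp_neg_ord P hy0, ← WithZero.exp_zsmul, ← WithZero.exp_nsmul]
  congr 1
  simp only [smul_eq_mul, nsmul_eq_mul]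
  ring

end Groth.Agent.Helper16.FFW
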