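import Mathlib
import Groth.Agent.Lib.Helper16.FFW.Ext2
import Groth.Agent.Lib.Helper16.FF.AutB

set_option autoImplicit false

namespace Groth.Agent.Helper16.FFW

open FunFld IntermediateField
open scoped WithZero

section single
variable {k K : Type*} [Field k] [Field K] [Algebra k K]

theorem one_lt_val_iff' (Q : Place k K) {z : K} (hz : z ≠ 0) : 1 < Q.1 z ↔ Q.ord z < 0 := by
  rw [← not_le, Place.val_le_one_iff Q hz, not_le]

/-- an element whose only pole is at `P` -/
theorem exists_single_pole (hK : IsFunctionField k K) (P : Place k K) :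
    ∃ x : K, Transcendental k x ∧ 1 < P.1 x ∧ ∀ Q : Place k K, Q ≠ P → Q.1 x ≤ 1 := by
  classical
  set m : ℕ := genus k K + 1 with hm
  set D : Divisor k K := m • (Finsupp.single P 1 : Divisor k K) with hD
  have hdeg : (m : ℤ) ≤ D.deg := by
    rw [hD, FF.Divisor.deg_nsmul, FF.Divisor.deg_single]
    have h1 : (1 : ℤ) ≤ (P.deg : ℤ) := by exact_mod_cast FF.Place.deg_pos hK P
    nlinarith
  have h2 : 2 ≤ ell D := by
    have := FF.riemann_le hK D
    have : (2 : ℤ) ≤ ell D := by rw [hm] at hdeg; push_cast at hdeg; omega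
    exact_mod_cast this
  obtain ⟨x, hxD, hx⟩ := FF.exists_nonconstant_mem_L hK h2
  have hxtr : Transcendental k x := FF.transcendental_of_not_mem_range hK hx
  have hQ : ∀ Q : Place k K, Q ≠ P → Q.1 x ≤ 1 := by
    intro Q hQP
    have := hxD Q
    rwa [hD, Finsupp.smul_apply, Finsupp.single_eq_of_ne hQP, smul_zero, WithZero.exp_zero] at this
  obtain ⟨Q₀, hQ₀⟩ := FF.exists_pole hK hxtr
  have : Q₀ = P := by
    by_contra hne
    exact absurd (hQ Q₀ hne) (not_le.2 hQ₀)
  exact ⟨x, hxtr, this ▸ hQ₀, hQ⟩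

end single

variable {k K K' : Type*} [Field k] [Field K] [Field K'] [Algebra k K] [Algebra K K'] [Algebra k K']
  [IsScalarTower k K K']

theorem ramIdx_eq {Q : Place k K'} {P : Place k K} {e : ℕ} (h : IsOverWith Q P e) :
    ramIdx Q P = e := by
  classical
  unfold ramIdx
  have hex : IsOver Q P := ⟨e, h⟩
  rw [dif_pos hex]
  exact (isOverWith_unique (Nat.find_spec hex) h).2

theorem isOverWith_ramIdx {Q : Place k K'} {P : Place k K} (h : IsOver Q P) :
    IsOverWith Q P (ramIdx Q P) := by
  obtain ⟨e, he⟩ := h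
  rw [ramIdx_eq he]; exact he


omit [IsScalarTower k K K'] in
theorem ord_of_isOverWith {Q : Place k K'} {P : Place k K} {e : ℕ} (h : IsOverWith Q P e) (y : K) :
    Q.ord (algebraMap K K' y) = e * P.ord y := by
  unfold Place.ord
  rw [h y, WithZero.log_pow]
  simp

/-- **`∑ e f = n`** -/
theorem sum_ramIdx_mul_deg [FiniteDimensional K K'] (hK : IsFunctionField k K) (P : Place k K) :
    {Q : Place k K' | IsOver Q P}.Finite ∧
    ∀ Qs : Finset (Place k K'), (∀ Q, Q ∈ Qs ↔ IsOver Q P) →
      (∑ Q ∈ Qs, ramIdx Q P * Q.deg) = Module.finrank K K' * P.deg := by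
  classical
  have hKw : IsWeakFF k K := hK.1
  have hK' : IsWeakFF k K' := isWeakFF_of_finite hKw
  obtain ⟨x, hxtr, hxP, hxQ⟩ := exists_single_pole hK P
  have hx0 : x ≠ 0 := fun h => hxtr (h ▸ isAlgebraic_zero)
  set x' := algebraMap K K' x with hx'
  have hx'tr : Transcendental k x' :=
    (transcendental_algebraMap_iff (algebraMap K K').injective).2 hxtr
  set N : ℤ := -P.ord x with hN
  have hNpos : 0 < N := by
    have := (one_lt_val_iff' P hx0).1 hxP
    omega
  -- the pole divisor of `x` in `K`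
  have hpdK : ∀ Q : Place k K, (poleDiv x : Divisor k K) Q = if Q = P then N else 0 := by
    intro Q
    rw [poleDiv_apply hKw]
    split_ifs with h
    · subst h; exact max_eq_left hNpos.le
    · have := (Place.val_le_one_iff Q hx0).1 (hxQ Q h)
      exact max_eq_right (by omega)
  have hdegK : (poleDiv x : Divisor k K).deg = N * P.deg := by
    rw [Divisor.deg_eq_sum _ {P} (by
      intro Q hQ
      rw [Finsupp.mem_support_iff, hpdK] at hQ
      by_contra h
      rw [Finset.mem_singleton] at h
      rw [if_neg h] at hQ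
      exact hQ rfl)]
    rw [Finset.sum_singleton, hpdK, if_pos rfl]
  -- the pole divisor of `x` in `K'`
  have hpd : ∀ Q : Place k K', (poleDiv x' : Divisor k K') Q =
      if IsOver Q P then N * ramIdx Q P else 0 := by
    intro Q
    obtain ⟨P', e, he⟩ := exists_isOverWith hKw Q
    rw [poleDiv_apply hK', hx', ord_of_isOverWith he]
    by_cases hPP : P' = P
    · subst hPP
      have hov : IsOver Q P' := ⟨e, he⟩
      rw [if_pos hov, ramIdx_eq he]
      have : -(↑e * P'.ord x) = N * e := by rw [hN]; ring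
      rw [this]
      exact max_eq_left (by positivity)
    · have hnot : ¬ IsOver Q P := fun ⟨e', he'⟩ => hPP (isOverWith_unique he he').1
      rw [if_neg hnot]
      have := (Place.val_le_one_iff P' hx0).1 (hxQ P' hPP)
      exact max_eq_right (by
        have : (0 : ℤ) ≤ e * P'.ord x := by positivity
        omega)
  have hfin : {Q : Place k K' | IsOver Q P}.Finite := by
    refine (poleDiv x' : Divisor k K').support.finite_toSet.subset ?_
    intro Q hQ
    have hQ' : IsOver Q P := hQ
    rw [Finset.mem_coe, Finsupp.mem_support_iff, hpd, if_pos hQ']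
    have := isOverWith_pos (isOverWith_ramIdx hQ')
    positivity
  refine ⟨hfin, fun Qs hQs => ?_⟩
  have hdegK' : (poleDiv x' : Divisor k K').deg = ∑ Q ∈ Qs, N * ramIdx Q P * Q.deg := by
    rw [Divisor.deg_eq_sum _ Qs (by
      intro Q hQ
      rw [Finsupp.mem_support_iff, hpd] at hQ
      by_contra h
      rw [hQs] at h
      rw [if_neg h] at hQ
      exact hQ rfl)]
    refine Finset.sum_congr rfl fun Q hQ => ?_
    rw [hpd, if_pos ((hQs Q).1 hQ)]
  have e1 := deg_poleDiv hKw hxtr
  have e2 := deg_poleDiv hK' hx'tr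
  rw [hx', finrank_adjoin_incl, hdegK'] at e2
  rw [hdegK] at e1
  have e3 : N * ∑ Q ∈ Qs, ((ramIdx Q P * Q.deg : ℕ) : ℤ) = N * ((Module.finrank K K' * P.deg : ℕ) : ℤ) := by
    rw [Finset.mul_sum]
    push_cast
    push_cast at e2
    rw [← e1] at e2
    rw [show N * (↑(Module.finrank K K') * ↑P.deg) = N * ↑P.deg * ↑(Module.finrank K K') by ring,
      ← e2]
    refine Finset.sum_congr rfl fun Q _ => by ring
  have e4 := mul_left_cancel₀ hNpos.ne' e3
  exact_mod_cast e4

end Groth.Agent.Helper16.FFW
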