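import Mathlib
import Groth.Agent.Lib.Helper16.FFW.Ext3

set_option autoImplicit false

namespace Groth.Agent.Helper16.FFW

open FunFld IntermediateField
open scoped WithZero

section deg
variable {k K : Type*} [Field k] [Field K] [Algebra k K]

/-- the degree as an additive homomorphism -/
noncomputable def degAddHom : Divisor k K →+ ℤ where
  toFun := Divisor.deg
  map_zero' := Divisor.deg_zero
  map_add' := Divisor.deg_add

theorem Divisor.deg_finset_sum {ι : Type*} (s : Finset ι) (f : ι → Divisor k K) :
    Divisor.deg (∑ i ∈ s, f i) = ∑ i ∈ s, (f i).deg :=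
  map_sum (degAddHom (k := k) (K := K)) f s

end deg

variable {k K K' : Type*} [Field k] [Field K] [Field K'] [Algebra k K] [Algebra K K'] [Algebra k K']
  [IsScalarTower k K K']

theorem conorm_apply [FiniteDimensional K K'] (hK : IsFunctionField k K) (D : Divisor k K)
    {Q : Place k K'} {P : Place k K} {e : ℕ} (h : IsOverWith Q P e) :
    conorm K' D Q = D P * e := by
  classical
  unfold conorm
  rw [Finsupp.sum_apply]
  have hterm : ∀ (P' : Place k K) (n : ℤ),
      (n • if h : {Q : Place k K' | IsOver Q P'}.Finite then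
        h.toFinset.sum (fun Q => (ramIdx Q P' : ℤ) • (Finsupp.single Q 1 : Divisor k K')) else 0) Q =
      if P' = P then n * e else 0 := by
    intro P' n
    have hfin := (sum_ramIdx_mul_deg (K' := K') hK P').1
    rw [dif_pos hfin, Finsupp.smul_apply, Finsupp.finsetSum_apply]
    split_ifs with hP
    · subst hP
      have hQ : Q ∈ hfin.toFinset := by
        rw [Set.Finite.mem_toFinset]; exact ⟨e, h⟩
      rw [Finset.sum_eq_single_of_mem Q hQ (fun Q' _ hne => by
        rw [Finsupp.smul_apply, Finsupp.single_eq_of_ne hne.symm, smul_zero])]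
      rw [Finsupp.smul_apply, Finsupp.single_eq_same, ramIdx_eq h]
      simp
    · rw [Finset.sum_eq_zero, smul_zero]
      intro Q' hQ'
      rw [Set.Finite.mem_toFinset] at hQ'
      obtain ⟨e', he'⟩ := hQ'
      have hne : Q' ≠ Q := by
        rintro rfl
        exact hP (isOverWith_unique he' h).1
      rw [Finsupp.smul_apply, Finsupp.single_eq_of_ne hne.symm, smul_zero]
  simp_rw [hterm]
  rw [Finsupp.sum_eq_single P (fun b _ hb => by rw [if_neg hb]) (by simp), if_pos rfl]

theorem deg_conorm [FiniteDimensional K K'] (hK : IsFunctionField k K) (D : Divisor k K) :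
    (conorm K' D).deg = Module.finrank K K' * D.deg := by
  classical
  unfold conorm
  rw [Finsupp.sum, Divisor.deg_finset_sum]
  have hterm : ∀ P : Place k K,
      Divisor.deg (D P • if h : {Q : Place k K' | IsOver Q P}.Finite then
        h.toFinset.sum (fun Q => (ramIdx Q P : ℤ) • (Finsupp.single Q 1 : Divisor k K')) else 0) =
      Module.finrank K K' * (D P * P.deg) := by
    intro P
    obtain ⟨hfin, hsum⟩ := sum_ramIdx_mul_deg (K' := K') hK P
    rw [dif_pos hfin, Divisor.deg_smul, Divisor.deg_finset_sum]
    have h1 := hsum hfin.toFinset (fun Q => by rw [Set.Finite.mem_toFinset]; rfl)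
    have h2 : ∑ Q ∈ hfin.toFinset,
        Divisor.deg ((ramIdx Q P : ℤ) • (Finsupp.single Q 1 : Divisor k K')) =
        ((∑ Q ∈ hfin.toFinset, ramIdx Q P * Q.deg : ℕ) : ℤ) := by
      push_cast
      refine Finset.sum_congr rfl fun Q _ => ?_
      rw [Divisor.deg_smul, Divisor.deg_single]; ring
    rw [h2, h1]
    push_cast
    ring
  simp_rw [hterm]
  rw [← Finset.mul_sum]
  rfl

theorem div_algebraMap_eq_conorm [FiniteDimensional K K'] (hK : IsFunctionField k K) (x : K) :
    div k (algebraMap K K' x) = conorm K' (div k x) := by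
  have hKw : IsWeakFF k K := hK.1
  have hK' : IsWeakFF k K' := isWeakFF_of_finite hKw
  ext Q
  obtain ⟨P, e, he⟩ := exists_isOverWith hKw Q
  rw [conorm_apply hK _ he, div_apply hK', div_apply hKw, ord_of_isOverWith he]
  ring

end Groth.Agent.Helper16.FFW
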