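import Mathlib
import Groth.Agent.Lib.Helper16.FFW.Ext4
import Groth.Agent.Lib.Helper16.FF.MapDiv

set_option autoImplicit false

namespace Groth.Agent.Helper16.FFW

open FunFld IntermediateField
open scoped WithZero

theorem mapDiv_algebraMap_eq_conorm {k K K' : Type*} [Field k] [Field K] [Field K'] [Algebra k K]
    [Algebra K K'] [Algebra k K'] [IsScalarTower k K K'] [FiniteDimensional K K']
    (hK : IsFunctionField k K) (hK' : IsFunctionField k K') {ι : Type*} [Fintype ι] [Nonempty ι]
    (φ : ι → K) :
    mapDiv k (fun i => algebraMap K K' (φ i)) = conorm K' (mapDiv k φ) := by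
  classical
  ext Q
  have hKw : IsWeakFF k K := hK.1
  obtain ⟨P, e, he⟩ := exists_isOverWith hKw Q
  rw [conorm_apply hK _ he, FF.mapDiv_apply hK', FF.mapDiv_apply hK]
  have h1 : (fun i => Q.ord (algebraMap K K' (φ i))) = fun i => (e : ℤ) * P.ord (φ i) := by
    funext i
    exact ord_of_isOverWith he (φ i)
  rw [h1]
  have h2 := Finset.apply_inf'_eq_inf'_comp (s := (Finset.univ : Finset ι))
    Finset.univ_nonempty (f := fun i => P.ord (φ i)) (fun z : ℤ => (e : ℤ) * z)
    (fun x y => mul_min_of_nonneg x y (by positivity))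
  have h3 : ((fun z : ℤ => (e : ℤ) * z) ∘ fun i => P.ord (φ i)) = fun i => (e : ℤ) * P.ord (φ i) := rfl
  rw [h3] at h2
  rw [← h2]
  ring

theorem deg_mapDiv_algebraMap {k K K' : Type*} [Field k] [Field K] [Field K'] [Algebra k K]
    [Algebra K K'] [Algebra k K'] [IsScalarTower k K K'] [FiniteDimensional K K']
    (hK : IsFunctionField k K) (hK' : IsFunctionField k K') {ι : Type*} [Fintype ι] [Nonempty ι]
    (φ : ι → K) :
    (mapDiv k (fun i => algebraMap K K' (φ i))).deg = Module.finrank K K' * (mapDiv k φ).deg := by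
  rw [mapDiv_algebraMap_eq_conorm hK hK', deg_conorm hK]

/-- `K` regarded as an extension of itself through the embedding `τ` -/
def Twist {k K : Type*} [Field k] [Field K] [Algebra k K] (_τ : K →ₐ[k] K) : Type _ := K

section twist
variable {k K : Type*} [Field k] [Field K] [Algebra k K] (τ : K →ₐ[k] K)

instance : Field (Twist τ) := inferInstanceAs (Field K)
instance : Algebra k (Twist τ) := inferInstanceAs (Algebra k K)
instance twistAlg : Algebra K (Twist τ) := τ.toRingHom.toAlgebra
instance : IsScalarTower k K (Twist τ) :=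
  IsScalarTower.of_algebraMap_eq (fun c => (τ.commutes c).symm)

theorem twist_finite (hK : IsFunctionField k K) : Module.Finite τ.fieldRange K := by
  obtain ⟨⟨x, hx, -⟩, -⟩ := id hK
  have hτx : Transcendental k (τ x) := by
    intro h
    exact hx ((isAlgebraic_algHom_iff τ τ.injective).1 h)
  have hfin := FF.finite_of_transcendental hK hτx
  have hle : IntermediateField.adjoin k ({τ x} : Set K) ≤ τ.fieldRange := by
    rw [IntermediateField.adjoin_le_iff, Set.singleton_subset_iff]
    exact ⟨x, rfl⟩
  have : FiniteDimensional (IntermediateField.extendScalars hle) K :=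
    IntermediateField.finiteDimensional_right _
  exact this

/-- the isomorphism `K ≃ τ(K)` -/
noncomputable def twistEquiv : K ≃+* τ.fieldRange := (AlgEquiv.ofInjectiveField τ).toRingEquiv

theorem twistEquiv_apply (a : K) : ((twistEquiv τ a : τ.fieldRange) : K) = τ a := rfl

theorem twist_comm : (algebraMap τ.fieldRange K).comp (twistEquiv τ).toRingHom =
    (RingEquiv.refl K).toRingHom.comp (algebraMap K (Twist τ)) := by
  ext a; rfl

theorem twist_finite' (hK : IsFunctionField k K) : Module.Finite K (Twist τ) := by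
  have := twist_finite τ hK
  refine Module.Finite.of_equiv_equiv (A₁ := τ.fieldRange) (B₁ := K) (A₂ := K) (B₂ := Twist τ)
    (twistEquiv τ).symm (RingEquiv.refl K) ?_
  ext a
  show τ ((twistEquiv τ).symm a) = a
  rw [← twistEquiv_apply, RingEquiv.apply_symm_apply]

theorem twist_finrank : Module.finrank K (Twist τ) = Module.finrank τ.fieldRange K :=
  Algebra.finrank_eq_of_equiv_equiv (R₀ := K) (S₀ := Twist τ) (twistEquiv τ) (RingEquiv.refl K)
    (twist_comm τ)

end twist

/-- **S11052** -/
theorem deg_mapDiv_comp_algHom {k K : Type*} [Field k] [Field K] [Algebra k K]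
    (hK : IsFunctionField k K) (τ : K →ₐ[k] K) {ι : Type*} [Fintype ι] [Nonempty ι] (φ : ι → K) :
    (mapDiv k (τ ∘ φ)).deg = Module.finrank τ.fieldRange K * (mapDiv k φ).deg := by
  have hK' : IsFunctionField k (Twist τ) := hK
  have := twist_finite' τ hK
  have := deg_mapDiv_algebraMap (K' := Twist τ) hK hK' φ
  rw [twist_finrank] at this
  exact this

end Groth.Agent.Helper16.FFW
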