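import Mathlib
import Groth.Agent.Lib.Helper16.FFW.Ext4
import Groth.Agent.Lib.Helper16.FF.Galois

set_option autoImplicit false

namespace Groth.Agent.Helper16.FFW

open FunFld IntermediateField
open scoped WithZero Pointwise

variable {k K K' : Type*} [Field k] [Field K] [Field K'] [Algebra k K] [Algebra K K'] [Algebra k K']
  [IsScalarTower k K K']

/-- the left action of the Galois group on the places of `K'` -/
@[instance_reducible]
noncomputable def galAction : MulAction (K' ≃ₐ[K] K') (Place k K') where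
  smul σ Q := FF.Place.comapAutK σ⁻¹ Q
  one_smul Q := by
    show FF.Place.comapAutK (1 : K' ≃ₐ[K] K')⁻¹ Q = Q
    rw [inv_one, FF.Place.comapAutK_one]
  mul_smul σ τ Q := by
    show FF.Place.comapAutK (σ * τ)⁻¹ Q = FF.Place.comapAutK σ⁻¹ (FF.Place.comapAutK τ⁻¹ Q)
    rw [FF.Place.comapAutK_mul, mul_inv_rev]

attribute [local instance] galAction

theorem galAction_apply (σ : K' ≃ₐ[K] K') (Q : Place k K') (x : K') :
    (σ • Q).1 x = Q.1 (σ⁻¹ x) := rfl

theorem galAction_isOverWith (σ : K' ≃ₐ[K] K') {Q : Place k K'} {P : Place k K} {e : ℕ}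
    (h : IsOverWith Q P e) : IsOverWith (σ • Q) P e := by
  intro x
  rw [galAction_apply, AlgEquiv.commutes]
  exact h x

/-- valuation ring of the translated place -/
theorem galAction_O (σ : K' ≃ₐ[K] K') (Q : Place k K') : (σ • Q).O = σ • Q.O := by
  ext x
  rw [ValuationSubring.mem_pointwise_smul_iff_inv_smul_mem]
  rfl

theorem Place.eq_of_O_eq {Q Q' : Place k K'} (h : Q.O = Q'.O) : Q = Q' := by
  apply Place.eq_of_le_one_imp
  intro y hy
  have : y ∈ Q.O := hy
  rw [h] at this
  exact this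

theorem stabilizer_eq_decomposition (Q : Place k K') :
    MulAction.stabilizer (K' ≃ₐ[K] K') Q = Q.O.decompositionSubgroup K := by
  ext σ
  rw [MulAction.mem_stabilizer_iff, MulAction.mem_stabilizer_iff, ← galAction_O]
  constructor
  · intro h; rw [h]
  · intro h; exact Place.eq_of_O_eq h

theorem orbit_eq_fiber [FiniteDimensional K K'] [IsGalois K K'] {Q : Place k K'} {P : Place k K}
    {e : ℕ} (h : IsOverWith Q P e) :
    MulAction.orbit (K' ≃ₐ[K] K') Q = {Q' : Place k K' | IsOver Q' P} := by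
  ext Q'
  constructor
  · rintro ⟨σ, rfl⟩
    exact ⟨e, galAction_isOverWith σ h⟩
  · rintro ⟨e', he'⟩
    have he0 := isOverWith_pos h
    have he0' := isOverWith_pos he'
    have hequiv : (Q.1.comap (algebraMap K K')).IsEquiv (Q'.1.comap (algebraMap K K')) := by
      intro x y
      show Q.1 (algebraMap K K' x) ≤ Q.1 (algebraMap K K' y) ↔
        Q'.1 (algebraMap K K' x) ≤ Q'.1 (algebraMap K K' y)
      rw [h x, h y, he' x, he' y, pow_le_pow_iff_left₀ zero_le zero_le he0.ne',
        pow_le_pow_iff_left₀ zero_le zero_le he0'.ne']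
    obtain ⟨σ, hσ⟩ := FF.galois_transitive Q Q' hequiv
    refine ⟨σ⁻¹, ?_⟩
    apply Place.ext'
    intro x
    show Q.1 (σ⁻¹⁻¹ x) = Q'.1 x
    rw [inv_inv, ← hσ]
    rfl

/-- **S11022 (a)** -/
theorem card_fiber_mul_card_decomposition [FiniteDimensional K K'] [IsGalois K K']
    {Q : Place k K'} {P : Place k K} {e : ℕ} (h : IsOverWith Q P e) :
    Nat.card {Q' : Place k K' // IsOver Q' P} * Nat.card (Q.O.decompositionSubgroup K) =
      Module.finrank K K' := by
  rw [← IsGalois.card_aut_eq_finrank K K', ← stabilizer_eq_decomposition,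
    ← Subgroup.index_mul_card (MulAction.stabilizer (K' ≃ₐ[K] K') Q), MulAction.index_stabilizer,
    orbit_eq_fiber h]
  congr 1


theorem deg_galAction (hK' : IsWeakFF k K') (σ : K' ≃ₐ[K] K') (Q : Place k K') :
    (σ • Q).deg = Q.deg := by
  let f : K' →ₗ[k] K' := ((σ⁻¹ : K' ≃ₐ[K] K').restrictScalars k).toLinearMap
  have hf : Function.Injective f := (σ⁻¹ : K' ≃ₐ[K] K').injective
  have hmap : ∀ m : ℤ, (Vloc (σ • Q) m).map f = Vloc Q m := by
    intro m
    ext x
    constructor
    · rintro ⟨y, hy, rfl⟩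
      exact hy
    · intro hx
      refine ⟨σ x, ?_, ?_⟩
      · show Q.1 (σ⁻¹ (σ x)) ≤ WithZero.exp m
        rw [show σ⁻¹ (σ x) = x from σ.symm_apply_apply x]
        exact hx
      · show σ⁻¹ (σ x) = x
        exact σ.symm_apply_apply x
  have h1 := (hasRelDim_Vloc_succ hK' (σ • Q) (-1)).map f hf
  rw [hmap, hmap] at h1
  exact h1.unique (hasRelDim_Vloc_succ hK' Q (-1))

/-- **S11022** -/
theorem galois_fiber [FiniteDimensional K K'] [IsGalois K K'] (hK : IsFunctionField k K)
    {Q : Place k K'} {P : Place k K} {e : ℕ} (h : IsOverWith Q P e) :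
    Nat.card {Q' : Place k K' // IsOver Q' P} * Nat.card (Q.O.decompositionSubgroup K) =
      Module.finrank K K' ∧
    ∀ Q' : Place k K', IsOver Q' P → IsOverWith Q' P e ∧ Q'.deg = Q.deg := by
  refine ⟨card_fiber_mul_card_decomposition h, fun Q' hQ' => ?_⟩
  have hK' : IsWeakFF k K' := isWeakFF_of_finite hK.1
  have : Q' ∈ MulAction.orbit (K' ≃ₐ[K] K') Q := by rw [orbit_eq_fiber h]; exact hQ'
  obtain ⟨σ, rfl⟩ := this
  exact ⟨galAction_isOverWith σ h, deg_galAction hK' σ Q⟩

/-- **S11021** -/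
theorem card_decomposition_mul_deg [FiniteDimensional K K'] [IsGalois K K']
    (hK : IsFunctionField k K) {Q : Place k K'} {P : Place k K} {e : ℕ} (h : IsOverWith Q P e) :
    Nat.card (Q.O.decompositionSubgroup K) * P.deg = e * Q.deg := by
  classical
  obtain ⟨h1, h2⟩ := galois_fiber hK h
  obtain ⟨hfin, hsum⟩ := sum_ramIdx_mul_deg (K' := K') hK P
  have h3 := hsum hfin.toFinset (fun Q' => by rw [Set.Finite.mem_toFinset]; rfl)
  have h4 : ∑ Q' ∈ hfin.toFinset, ramIdx Q' P * Q'.deg = hfin.toFinset.card * (e * Q.deg) := by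
    rw [Finset.sum_const_nat]
    intro Q' hQ'
    rw [Set.Finite.mem_toFinset] at hQ'
    obtain ⟨he', hd'⟩ := h2 Q' hQ'
    rw [ramIdx_eq he', hd']
  have h5 : Nat.card {Q' : Place k K' // IsOver Q' P} = hfin.toFinset.card := by
    rw [← Set.ncard_eq_toFinset_card _ hfin]
    exact Nat.card_coe_set_eq _
  rw [h4, ← h1, h5] at h3
  have hpos : 0 < hfin.toFinset.card := by
    apply Finset.card_pos.2
    exact ⟨Q, by rw [Set.Finite.mem_toFinset]; exact ⟨e, h⟩⟩
  have h6 : hfin.toFinset.card * (e * Q.deg) =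
      hfin.toFinset.card * (Nat.card (Q.O.decompositionSubgroup K) * P.deg) := by
    rw [h3]; ring
  exact (Nat.eq_of_mul_eq_mul_left hpos h6).symm

end Groth.Agent.Helper16.FFW
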