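import Groth.Agent.Lib.Helper16.FFW.RatPlace

/-!
# Residue degrees grow in extensions
-/

set_option autoImplicit false

namespace Groth.Agent.Helper16.FFW

open FunFld IntermediateField
open scoped WithZero

variable {k K K' : Type*} [Field k] [Field K] [Field K'] [Algebra k K] [Algebra K K'] [Algebra k K']
  [IsScalarTower k K K']

/-- Linearly independent residues at `P` stay linearly independent at `Q | P`. -/
theorem card_le_deg_of_isOverWith (hK' : IsWeakFF k K') {Q : Place k K'} {P : Place k K} {e : ℕ}
    (h : IsOverWith Q P e) {ι : Type*} [Fintype ι]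
    (b : ι → IsLocalRing.ResidueField P.O) (hb : LinearIndependent k b) :
    Fintype.card ι ≤ Q.deg := by
  have hfinQ := Place.finiteDimensional_residueField hK' Q
  have hlift : ∀ i, ∃ z : P.O, IsLocalRing.residue P.O z = b i := fun i =>
    IsLocalRing.residue_surjective (b i)
  choose z hz using hlift
  let w : ι → Q.O := fun i => ⟨algebraMap K K' (z i : K),
    (Place.mem_O_iff Q _).mpr ((isOverWith_le_one_iff h _).2 ((Place.mem_O_iff P _).mp (z i).2))⟩
  have hli : LinearIndependent k (fun i => IsLocalRing.residue Q.O (w i)) := by
    rw [linearIndependent_iff']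
    intro s a hsum i hi
    -- the combination downstairs
    set u : P.O := ∑ j ∈ s, a j • z j with hu
    have hucoe : ((u : P.O) : K) = ∑ j ∈ s, a j • (z j : K) := by
      rw [hu, ← P.O.subtype_apply, map_sum]
      refine Finset.sum_congr rfl fun j _ => ?_
      exact Place.coe_smul_O P (a j) (z j)
    set u' : Q.O := ∑ j ∈ s, a j • w j with hu'
    have hu'coe : ((u' : Q.O) : K') = algebraMap K K' (u : K) := by
      rw [hu', ← Q.O.subtype_apply, map_sum, hucoe, map_sum]
      refine Finset.sum_congr rfl fun j _ => ?_
      rw [Q.O.subtype_apply, Place.coe_smul_O Q (a j) (w j)]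
      show a j • algebraMap K K' (z j : K) = algebraMap K K' (a j • (z j : K))
      rw [Algebra.smul_def, Algebra.smul_def, map_mul, ← IsScalarTower.algebraMap_apply]
    have h1 : IsLocalRing.residue Q.O u' = 0 := by
      rw [hu', map_sum, ← hsum]
      refine Finset.sum_congr rfl fun j _ => ?_
      exact Place.residue_smul Q (a j) (w j)
    rw [Place.residue_eq_zero_iff, hu'coe, isOverWith_lt_one_iff h] at h1
    have h2 : IsLocalRing.residue P.O u = 0 := (Place.residue_eq_zero_iff P u).mpr h1
    rw [hu, map_sum] at h2
    have h3 : ∑ j ∈ s, a j • b j = 0 := by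
      rw [← h2]
      refine Finset.sum_congr rfl fun j _ => ?_
      rw [Place.residue_smul, hz]
    exact linearIndependent_iff'.mp hb s a h3 i hi
  exact hli.fintype_card_le_finrank

theorem deg_le_of_isOverWith (hK' : IsWeakFF k K') {Q : Place k K'} {P : Place k K} {e : ℕ}
    (h : IsOverWith Q P e) : P.deg ≤ Q.deg := by
  by_cases hfin : FiniteDimensional k (IsLocalRing.ResidueField P.O)
  · let b := Module.finBasis k (IsLocalRing.ResidueField P.O)
    have := card_le_deg_of_isOverWith hK' h b b.linearIndependent
    simpa [Place.deg] using this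
  · have : P.deg = 0 := Module.finrank_of_not_finite hfin
    omega

end Groth.Agent.Helper16.FFW
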