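import Groth.Agent.Lib.Helper16.FFW.Ext7

/-!
# Hyperelliptic function fields `y² = f(x)`: the constant field
-/

set_option autoImplicit false

namespace Groth.Agent.Helper16.FFW

open FunFld Polynomial IntermediateField
open scoped WithZero

section Rat

variable {k : Type*} [Field k]

theorem ord_poly_eq_one_of_squarefree (P₀ : Place k (RatFunc k)) {p f : k[X]} (hp : Irreducible p)
    (hP₀ : P₀.1 (algebraMap k[X] (RatFunc k) p) < 1) (hf : Squarefree f) (hpf : p ∣ f) :
    P₀.ord (algebraMap k[X] (RatFunc k) f) = 1 := by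
  obtain ⟨g, rfl⟩ := hpf
  have hpg : ¬ p ∣ g := by
    rintro ⟨g', rfl⟩
    exact hp.not_isUnit (hf p ⟨g', by ring⟩)
  have hp0' : algebraMap k[X] (RatFunc k) p ≠ 0 := by simpa using hp.ne_zero
  have hg0 : g ≠ 0 := by rintro rfl; simp at hpg
  have hg0' : algebraMap k[X] (RatFunc k) g ≠ 0 := by simpa using hg0
  have hordp := ord_poly_eq_one P₀ hp hP₀
  have hordg : P₀.ord (algebraMap k[X] (RatFunc k) g) = 0 := by
    unfold Place.ord
    rw [val_poly_eq_one_of_not_dvd P₀ hp hP₀ hpg]
    simp
  rw [map_mul, Place.ord_mul P₀ hp0' hg0', hordp, hordg, add_zero]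

/-- A squarefree polynomial of positive degree is not a constant times a square in `k(X)`. -/
theorem sq_mul_ne_const {f : k[X]} (hf : Squarefree f) (hd : 1 ≤ f.natDegree) (b : RatFunc k)
    (c : k) : b ^ 2 * algebraMap k[X] (RatFunc k) f ≠ algebraMap k (RatFunc k) c ∨ b = 0 := by
  by_cases hb : b = 0
  · exact Or.inr hb
  left
  intro heq
  have hf0 : f ≠ 0 := hf.ne_zero
  have hfu : ¬ IsUnit f := fun h => by
    have := Polynomial.natDegree_eq_zero_of_isUnit h
    omega
  obtain ⟨p, hp, hpf⟩ := WfDvdMonoid.exists_irreducible_factor hfu hf0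
  have htr : Transcendental k (algebraMap k[X] (RatFunc k) p) := by
    apply RatFunc.transcendental_of_ne_C
    rintro ⟨c', hc'⟩
    have : p = Polynomial.C c' := by
      apply RatFunc.algebraMap_injective k
      rw [hc', RatFunc.algebraMap_C]
    rw [this] at hp
    by_cases hc0 : c' = 0
    · rw [hc0, map_zero] at hp; exact hp.ne_zero rfl
    · exact hp.not_isUnit (Polynomial.isUnit_C.2 (Ne.isUnit hc0))
  obtain ⟨P₀, hP₀⟩ := exists_zero (isFunctionField_ratFunc (k := k)).1 htr
  have hordf := ord_poly_eq_one_of_squarefree P₀ hp hP₀ hf hpf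
  have hf0' : algebraMap k[X] (RatFunc k) f ≠ 0 := by simpa using hf0
  have h1 := congrArg P₀.ord heq
  rw [Place.ord_mul P₀ (pow_ne_zero _ hb) hf0', Place.ord_pow, hordf, Place.ord_algebraMap] at h1
  push_cast at h1
  omega

end Rat

section Quad

variable {F K : Type*} [Field F] [Field K] [Algebra F K]

theorem exists_decomp_of_sq {y : K} {φ : F} (hy : y ^ 2 = algebraMap F K φ)
    (htop : F⟮y⟯ = ⊤) (z : K) :
    ∃ a b : F, z = algebraMap F K a + algebraMap F K b * y := by
  have hmonic : (X ^ 2 - C φ : F[X]).Monic := monic_X_pow_sub_C φ (by norm_num)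
  have hroot : aeval y (X ^ 2 - C φ : F[X]) = 0 := by simp [hy]
  have hint : IsIntegral F y := ⟨_, hmonic, hroot⟩
  have hz : z ∈ F⟮y⟯ := by rw [htop]; exact mem_top
  rw [← IntermediateField.mem_toSubalgebra,
    IntermediateField.adjoin_simple_toSubalgebra_of_isAlgebraic hint.isAlgebraic,
    Algebra.adjoin_singleton_eq_range_aeval] at hz
  obtain ⟨q, rfl⟩ := hz
  set r := q %ₘ (X ^ 2 - C φ) with hr
  have hdeg : r.natDegree ≤ 1 := by
    have hne1 : (X ^ 2 - C φ : F[X]) ≠ 1 := by
      intro h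
      have := congrArg natDegree h
      rw [natDegree_X_pow_sub_C, natDegree_one] at this
      omega
    have h1 : r.natDegree < (X ^ 2 - C φ : F[X]).natDegree := natDegree_modByMonic_lt q hmonic hne1
    rw [natDegree_X_pow_sub_C] at h1
    omega
  obtain ⟨a, b, hab⟩ := exists_eq_X_add_C_of_natDegree_le_one hdeg
  refine ⟨b, a, ?_⟩
  have hq : q = r + (X ^ 2 - C φ) * (q /ₘ (X ^ 2 - C φ)) := (modByMonic_add_div q (X ^ 2 - C φ)).symm
  have : (Polynomial.aeval y) q = aeval y r := by
    conv_lhs => rw [hq]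
    rw [map_add, map_mul, hroot, zero_mul, add_zero]
  show (Polynomial.aeval y) q = _
  rw [this, hab]
  simp [add_comm]

end Quad

end Groth.Agent.Helper16.FFW
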