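import Groth.Agent.Lib.Helper16.FFW.Hyper

/-!
# Hyperelliptic function fields `y² = f(x)`: the constant field, main theorem
-/

set_option autoImplicit false

namespace Groth.Agent.Helper16.FFW

open FunFld Polynomial IntermediateField
open scoped WithZero

section Rat

variable {k : Type*} [Field k]

theorem ratFunc_mem_range_of_isAlgebraic {w : RatFunc k} (hw : IsAlgebraic k w) :
    ∃ c : k, w = algebraMap k (RatFunc k) c := by
  by_contra hne
  apply RatFunc.transcendental_of_ne_C w ?_ hw
  rintro ⟨c, rfl⟩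
  exact hne ⟨c, by rw [RatFunc.algebraMap_eq_C]⟩

end Rat

theorem coeff_quad {R : Type*} [CommRing R] (u v : R) :
    (X ^ 2 - C u * X + C v : R[X]).coeff 1 = -u ∧ (X ^ 2 - C u * X + C v : R[X]).coeff 0 = v := by
  constructor
  · rw [coeff_add, coeff_sub, coeff_X_pow, coeff_C_mul_X, coeff_C]; simp
  · rw [coeff_add, coeff_sub, coeff_X_pow, coeff_C_mul_X, coeff_C]; simp

section Main

variable {k K : Type*} [Field k] [Field K] [Algebra k K] [Algebra (RatFunc k) K]
  [IsScalarTower k (RatFunc k) K]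

theorem algebraic_mem_range_of_hyper (h2 : ringChar k ≠ 2) {y : K} {f : k[X]}
    (hf : Squarefree f) (hd : 1 ≤ f.natDegree)
    (hy : y ^ 2 = algebraMap (RatFunc k) K (algebraMap k[X] (RatFunc k) f))
    (htop : (RatFunc k)⟮y⟯ = ⊤) (z : K) (hz : IsAlgebraic k z) :
    z ∈ Set.range (algebraMap k K) := by
  set φ : RatFunc k := algebraMap k[X] (RatFunc k) f with hφ
  have hinj : Function.Injective (algebraMap (RatFunc k) K) := (algebraMap (RatFunc k) K).injective
  have hφ0 : φ ≠ 0 := by
    rw [hφ]; simpa using hf.ne_zero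
  have h2k : (2 : k) ≠ 0 := Ring.two_ne_zero h2
  have h2F : (2 : RatFunc k) ≠ 0 := by
    have : (2 : RatFunc k) = algebraMap k (RatFunc k) 2 := (map_ofNat (algebraMap k (RatFunc k)) 2).symm
    rw [this]
    exact (_root_.map_ne_zero _).2 h2k
  -- `y` is not in `k(x)`
  have hyF : y ∉ Set.range (algebraMap (RatFunc k) K) := by
    rintro ⟨y₀, rfl⟩
    rw [← map_pow] at hy
    have hy₀ : y₀ ^ 2 = φ := hinj hy
    have hy₀0 : y₀ ≠ 0 := by
      rintro rfl
      rw [zero_pow (by norm_num)] at hy₀
      exact hφ0 hy₀.symm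
    rcases sq_mul_ne_const hf hd y₀⁻¹ 1 with h | h
    · apply h
      rw [← hφ, ← hy₀, inv_pow, inv_mul_cancel₀ (pow_ne_zero _ hy₀0), map_one]
    · exact inv_ne_zero hy₀0 h
  obtain ⟨a, b, rfl⟩ := exists_decomp_of_sq hy htop z
  have hb : b = 0 := by
    by_contra hb
    set A := algebraMap (RatFunc k) K a with hA
    set B := algebraMap (RatFunc k) K b with hB
    have hB0 : B ≠ 0 := by rw [hB]; simpa using hb
    have hzF : A + B * y ∉ Set.range (algebraMap (RatFunc k) K) := by
      rintro ⟨w, hw⟩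
      apply hyF
      refine ⟨(w - a) / b, ?_⟩
      rw [map_div₀, map_sub, hw, ← hA, ← hB]
      field_simp
      ring
    set h : (RatFunc k)[X] := X ^ 2 - C (2 * a) * X + C (a ^ 2 - b ^ 2 * φ) with hh
    have hroot : aeval (A + B * y) h = 0 := by
      rw [hh]
      simp only [map_add, map_sub, map_mul, map_pow, aeval_X, aeval_C, ← hA, ← hB, ← hy]
      have : (algebraMap (RatFunc k) K) 2 = 2 := map_ofNat (algebraMap (RatFunc k) K) 2
      rw [this]
      ring
    have hdegh : h.natDegree = 2 := by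
      rw [hh]
      compute_degree!
    have hmonic : h.Monic := by
      rw [hh]
      monicity!
    have hint : IsIntegral (RatFunc k) (A + B * y) := ⟨h, hmonic, hroot⟩
    have hmin : h = minpoly (RatFunc k) (A + B * y) := by
      apply eq_of_monic_of_dvd_of_natDegree_le (minpoly.monic hint) hmonic (minpoly.dvd _ _ hroot)
      rw [hdegh]
      exact (minpoly.two_le_natDegree_iff hint).2 hzF
    have hlift := integralClosure.mem_lifts_of_monic_of_dvd_map (R := k) (RatFunc k)
      (minpoly.monic hz.isIntegral) (minpoly.monic hint)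
      (minpoly.dvd_map_of_isScalarTower k (RatFunc k) (A + B * y))
    rw [← hmin, lifts_iff_coeff_lifts] at hlift
    have hcoef : ∀ n, ∃ c : k, h.coeff n = algebraMap k (RatFunc k) c := by
      intro n
      obtain ⟨w, hw⟩ := hlift n
      apply ratFunc_mem_range_of_isAlgebraic
      rw [← hw]
      exact (w.2 : IsIntegral k (w : RatFunc k)).isAlgebraic
    obtain ⟨c₁, hc₁⟩ := hcoef 1
    obtain ⟨c₀, hc₀⟩ := hcoef 0
    have h1 : h.coeff 1 = -(2 * a) := by
      rw [hh]
      exact (coeff_quad _ _).1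
    have h0 : h.coeff 0 = a ^ 2 - b ^ 2 * φ := by
      rw [hh]
      exact (coeff_quad _ _).2
    have ha : a = algebraMap k (RatFunc k) (-c₁ / 2) := by
      rw [map_div₀, map_neg, ← hc₁, h1]
      have : (algebraMap k (RatFunc k)) 2 = 2 := map_ofNat (algebraMap k (RatFunc k)) 2
      rw [this]
      field_simp
    have hbφ : b ^ 2 * φ = algebraMap k (RatFunc k) ((-c₁ / 2) ^ 2 - c₀) := by
      rw [map_sub, map_pow, ← ha, ← hc₀, h0]
      ring
    rcases sq_mul_ne_const hf hd b ((-c₁ / 2) ^ 2 - c₀) with h | h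
    · exact h hbφ
    · exact hb h
  subst hb
  rw [map_zero, zero_mul, add_zero] at hz ⊢
  have ha : IsAlgebraic k a := (isAlgebraic_algebraMap_iff hinj).1 hz
  obtain ⟨c, rfl⟩ := ratFunc_mem_range_of_isAlgebraic ha
  exact ⟨c, by rw [← IsScalarTower.algebraMap_apply]⟩

end Main

end Groth.Agent.Helper16.FFW
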