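import Groth.Agent.Lib.Helper16.FFW.Ext3

/-!
# Places of the rational function field at an irreducible polynomial
-/

set_option autoImplicit false

namespace Groth.Agent.Helper16.FFW

open FunFld Polynomial
open scoped WithZero

section General

variable {k K : Type*} [Field k] [Field K] [Algebra k K]

/-- At a pole of `x`, a polynomial in `x` has the valuation of its leading term. -/
theorem val_aeval_of_one_lt (P : Place k K) {x : K} (hx : 1 < P.1 x) :
    ∀ (n : ℕ) (q : k[X]), q.natDegree = n → q ≠ 0 → P.1 (aeval x q) = P.1 x ^ n := by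
  intro n
  induction n with
  | zero =>
    intro q hq hq0
    rw [Polynomial.eq_C_of_natDegree_eq_zero hq] at hq0 ⊢
    have hc : q.coeff 0 ≠ 0 := fun h => hq0 (by rw [h, map_zero])
    rw [aeval_C, Place.val_algebraMap P hc, pow_zero]
  | succ n ih =>
    intro q hq hq0
    have hdiv : q.divX.natDegree = n := by rw [Polynomial.natDegree_divX_eq_natDegree_tsub_one, hq]; rfl
    have hdiv0 : q.divX ≠ 0 := by
      intro h
      have := Polynomial.divX_mul_X_add q
      rw [h, zero_mul, zero_add] at this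
      rw [← this, natDegree_C] at hq
      omega
    have h1 : P.1 (aeval x q.divX * x) = P.1 x ^ (n + 1) := by
      rw [map_mul, ih q.divX hdiv hdiv0, pow_succ]
    have h2 : P.1 (algebraMap k K (q.coeff 0)) < P.1 (aeval x q.divX * x) := by
      rw [h1]
      calc P.1 (algebraMap k K (q.coeff 0)) ≤ 1 := P.2.1 _
        _ < P.1 x ^ (n + 1) := one_lt_pow₀ hx (by omega)
    conv_lhs => rw [← Polynomial.divX_mul_X_add q]
    rw [map_add, map_mul, aeval_X, aeval_C, Valuation.map_add_eq_of_lt_left _ h2, h1]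

theorem val_aeval_le_one (P : Place k K) {x : K} (hx : P.1 x ≤ 1) (q : k[X]) :
    P.1 (aeval x q) ≤ 1 := by
  have h1 : aeval x q ∈ Algebra.adjoin k ({x} : Set K) := Polynomial.aeval_mem_adjoin_singleton k x
  have h2 : Algebra.adjoin k ({x} : Set K) ≤ OA P := by
    apply Algebra.adjoin_le
    rintro _ rfl
    exact hx
  exact h2 h1

end General

section Rat

variable {k : Type*} [Field k]

theorem isFunctionField_ratFunc : IsFunctionField k (RatFunc k) := by
  refine ⟨⟨RatFunc.X, RatFunc.transcendental_X, ?_⟩, ?_⟩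
  · rw [RatFunc.adjoin_X]
    apply Module.finite_of_finrank_pos
    rw [IntermediateField.finrank_top]
    exact Nat.one_pos
  · intro y hy
    by_contra hne
    apply RatFunc.transcendental_of_ne_C y ?_ hy
    rintro ⟨c, rfl⟩
    exact hne ⟨c, by rw [RatFunc.algebraMap_eq_C]⟩

variable (P₀ : Place k (RatFunc k))

theorem algebraMap_eq_aeval_X (q : k[X]) :
    algebraMap k[X] (RatFunc k) q = aeval (RatFunc.X : RatFunc k) q := by
  rw [← RatFunc.algebraMap_X, Polynomial.aeval_algebraMap_apply, Polynomial.aeval_X_left_apply]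

theorem val_X_le_one_of_val_lt_one {p : k[X]} (hp0 : p ≠ 0)
    (hp : P₀.1 (algebraMap k[X] (RatFunc k) p) < 1) : P₀.1 (RatFunc.X : RatFunc k) ≤ 1 := by
  by_contra hX
  push Not at hX
  have := val_aeval_of_one_lt P₀ hX p.natDegree p rfl hp0
  rw [← algebraMap_eq_aeval_X, ] at this
  rw [this] at hp
  exact absurd hp (not_lt.2 (one_le_pow₀ hX.le))

theorem val_poly_le_one (hX : P₀.1 (RatFunc.X : RatFunc k) ≤ 1) (q : k[X]) :
    P₀.1 (algebraMap k[X] (RatFunc k) q) ≤ 1 := by
  rw [algebraMap_eq_aeval_X]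
  exact val_aeval_le_one P₀ hX q

variable {p : k[X]} (hp : Irreducible p) (hP₀ : P₀.1 (algebraMap k[X] (RatFunc k) p) < 1)

include hp hP₀

theorem val_poly_lt_one_iff_dvd (g : k[X]) :
    P₀.1 (algebraMap k[X] (RatFunc k) g) < 1 ↔ p ∣ g := by
  have hX := val_X_le_one_of_val_lt_one P₀ hp.ne_zero hP₀
  let I : Ideal k[X] :=
    { carrier := {g | P₀.1 (algebraMap k[X] (RatFunc k) g) < 1}
      add_mem' := by
        intro a b ha hb
        simp only [Set.mem_ofPred_eq] at ha hb ⊢
        rw [map_add]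
        exact lt_of_le_of_lt (P₀.1.map_add _ _) (max_lt ha hb)
      zero_mem' := by simp
      smul_mem' := by
        intro c g hg
        simp only [Set.mem_ofPred_eq, smul_eq_mul] at hg ⊢
        rw [map_mul, map_mul]
        calc P₀.1 (algebraMap k[X] (RatFunc k) c) * P₀.1 (algebraMap k[X] (RatFunc k) g)
            ≤ 1 * P₀.1 (algebraMap k[X] (RatFunc k) g) := by
              gcongr; exact val_poly_le_one P₀ hX c
          _ < 1 := by rw [one_mul]; exact hg }
  have hmax : (Ideal.span {p}).IsMaximal := PrincipalIdealRing.isMaximal_of_irreducible hp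
  have hle : Ideal.span {p} ≤ I := by
    rw [Ideal.span_le]
    rintro _ rfl
    exact hP₀
  have hne : I ≠ ⊤ := by
    intro h
    have : (1 : k[X]) ∈ I := by rw [h]; trivial
    have h1 : P₀.1 (algebraMap k[X] (RatFunc k) 1) < 1 := this
    simp at h1
  have heq : Ideal.span {p} = I := hmax.eq_of_le hne hle
  show g ∈ I ↔ _
  rw [← heq, Ideal.mem_span_singleton]

theorem val_poly_eq_one_of_not_dvd {g : k[X]} (hg : ¬ p ∣ g) :
    P₀.1 (algebraMap k[X] (RatFunc k) g) = 1 := by
  apply le_antisymm (val_poly_le_one P₀ (val_X_le_one_of_val_lt_one P₀ hp.ne_zero hP₀) g)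
  by_contra h
  push Not at h
  exact hg ((val_poly_lt_one_iff_dvd P₀ hp hP₀ g).1 h)

theorem ord_poly_dvd (a : k[X]) :
    P₀.ord (algebraMap k[X] (RatFunc k) p) ∣ P₀.ord (algebraMap k[X] (RatFunc k) a) := by
  by_cases ha : a = 0
  · subst ha; simp [Place.ord_zero]
  obtain ⟨n, a', ha', rfl⟩ := WfDvdMonoid.max_power_factor ha hp
  have hp0 : algebraMap k[X] (RatFunc k) p ≠ 0 := by
    simpa using hp.ne_zero
  have ha0 : a' ≠ 0 := by rintro rfl; simp at ha
  have ha0' : algebraMap k[X] (RatFunc k) a' ≠ 0 := by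
    simpa using ha0
  rw [map_mul, map_pow, Place.ord_mul P₀ (pow_ne_zero _ hp0) ha0', Place.ord_pow]
  have h1 : P₀.ord (algebraMap k[X] (RatFunc k) a') = 0 := by
    unfold Place.ord
    rw [val_poly_eq_one_of_not_dvd P₀ hp hP₀ ha']
    simp
  rw [h1, add_zero]
  exact Dvd.intro_left _ rfl

theorem ord_poly_eq_one : P₀.ord (algebraMap k[X] (RatFunc k) p) = 1 := by
  set m := P₀.ord (algebraMap k[X] (RatFunc k) p) with hm
  have hp0 : algebraMap k[X] (RatFunc k) p ≠ 0 := by
    simpa using hp.ne_zero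
  have hmpos : 0 < m := (Place.val_lt_one_iff P₀ hp0).1 hP₀
  obtain ⟨t, ht⟩ := Place.exists_uniformizer P₀
  have ht0 : t ≠ 0 := by
    rintro rfl
    rw [map_zero] at ht
    exact WithZero.exp_ne_zero ht.symm
  have hordt : P₀.ord t = 1 := by
    unfold Place.ord
    rw [ht]; simp
  have hnum := ord_poly_dvd P₀ hp hP₀ t.num
  have hden := ord_poly_dvd P₀ hp hP₀ t.denom
  have hden0 : algebraMap k[X] (RatFunc k) t.denom ≠ 0 := by
    simpa using RatFunc.denom_ne_zero t
  have hnum0 : algebraMap k[X] (RatFunc k) t.num ≠ 0 := by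
    simpa using (RatFunc.num_ne_zero ht0)
  have hdecomp : P₀.ord t = P₀.ord (algebraMap k[X] (RatFunc k) t.num) -
      P₀.ord (algebraMap k[X] (RatFunc k) t.denom) := by
    conv_lhs => rw [← RatFunc.num_div_denom t]
    rw [div_eq_mul_inv, Place.ord_mul P₀ hnum0 (inv_ne_zero hden0), Place.ord_inv]
    ring
  have hdvd : m ∣ 1 := by
    rw [← hordt, hdecomp]
    exact dvd_sub hnum hden
  exact Int.eq_one_of_dvd_one hmpos.le hdvd

end Rat

end Groth.Agent.Helper16.FFW
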