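import Groth.Agent.Lib.Helper16.FFW.Unram5
import Groth.Agent.Lib.Helper16.FFW.RatPlace
import Groth.Agent.Lib.Helper16.FF.GeomF
import Groth.Agent.Lib.Helper16.FF.AutA

/-!
# Uniformizers of the form `x - c` at places unramified over `k(x)`
-/

set_option autoImplicit false

namespace Groth.Agent.Helper16.FFW

open FunFld Polynomial IntermediateField
open scoped WithZero

variable {k K : Type*} [Field k] [Field K] [Algebra k K]

/-- value of a polynomial in `x` at a place where `x ≡ c` -/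
theorem val_aeval_eq_pow (Q : Place k K) {x : K} (hx : Q.1 x ≤ 1) {c : k}
    (hc : Q.1 (x - algebraMap k K c) < 1) {g : k[X]} (hg : g ≠ 0) :
    ∃ m : ℕ, Q.1 (aeval x g) = Q.1 (x - algebraMap k K c) ^ m := by
  obtain ⟨h, hgh, hnd⟩ := Polynomial.exists_eq_pow_rootMultiplicity_mul_and_not_dvd g hg c
  refine ⟨rootMultiplicity c g, ?_⟩
  have hroot : h.eval c ≠ 0 := fun h0 => hnd (dvd_iff_isRoot.2 h0)
  have hdecomp : h = C (h.eval c) + (X - C c) * (h /ₘ (X - C c)) := by
    have := modByMonic_add_div h (X - C c)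
    rw [modByMonic_X_sub_C_eq_C_eval] at this
    exact this.symm
  have h1 : Q.1 (aeval x h) = 1 := by
    rw [hdecomp]
    simp only [map_add, map_mul, map_sub, aeval_C, aeval_X]
    have ha : Q.1 (algebraMap k K (h.eval c)) = 1 := Place.val_algebraMap Q hroot
    rw [Valuation.map_add_eq_of_lt_left, ha]
    rw [ha, map_mul]
    calc _ ≤ Q.1 (x - algebraMap k K c) * 1 := mul_le_mul' le_rfl (val_aeval_le_one Q hx _)
      _ < 1 := by rwa [mul_one]
  conv_lhs => rw [hgh]
  rw [map_mul, map_pow, map_mul, map_pow, h1, mul_one]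
  simp [aeval_X, aeval_C]

theorem exists_const_uniformizer [IsAlgClosed k] (hK : IsFunctionField k K) (Q : Place k K) (x : K)
    (hx : Q.1 x ≤ 1)
    (hsurj : Function.Surjective
      (Q.1.comap (algebraMap (IntermediateField.adjoin k ({x} : Set K)) K))) :
    ∃ c : k, Q.1 (x - algebraMap k K c) = WithZero.exp (-1 : ℤ) := by
  obtain ⟨c, hc⟩ := FF.exists_const_sub_lt_one hK (FF.Place.deg_eq_one hK Q) hx
  refine ⟨c, ?_⟩
  obtain ⟨f, hf⟩ := hsurj (WithZero.exp (-1 : ℤ))
  obtain ⟨a, b, hab⟩ := (IntermediateField.mem_adjoin_simple_iff k (f : K)).1 f.2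
  have hf' : Q.1 (f : K) = WithZero.exp (-1 : ℤ) := hf
  set u := x - algebraMap k K c with hu
  have hfne : Q.1 (f : K) ≠ 0 := by rw [hf']; exact WithZero.exp_ne_zero
  have ha0 : a ≠ 0 := by
    rintro rfl
    apply hfne; rw [hab]; simp
  have hb0 : b ≠ 0 := by
    rintro rfl
    apply hfne; rw [hab]; simp
  obtain ⟨ma, hma⟩ := val_aeval_eq_pow Q hx hc ha0
  obtain ⟨mb, hmb⟩ := val_aeval_eq_pow Q hx hc hb0
  have hval : Q.1 u ^ ma / Q.1 u ^ mb = WithZero.exp (-1 : ℤ) := by
    rw [← hf', hab, map_div₀, hma, hmb]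
  have hu0 : Q.1 u ≠ 0 := by
    intro h0
    rw [h0] at hval
    rcases ma with _ | ma <;> rcases mb with _ | mb <;> simp at hval
    all_goals first | exact absurd hval.symm WithZero.exp_ne_zero | exact absurd hval WithZero.exp_ne_zero
  have hlog := WithZero.exp_log hu0
  set r := WithZero.log (Q.1 u) with hr
  rw [← hlog] at hc hval ⊢
  rw [← WithZero.exp_zero, WithZero.exp_lt_exp] at hc
  rw [← WithZero.exp_nsmul, ← WithZero.exp_nsmul, ← WithZero.exp_sub, WithZero.exp_inj] at hval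
  rw [WithZero.exp_inj]
  have h3 : r * ((ma : ℤ) - mb) = -1 := by
    rw [← hval]; simp only [nsmul_eq_mul]; ring
  rcases Int.mul_eq_neg_one_iff_eq_one_or_neg_one.1 h3 with ⟨h4, -⟩ | ⟨h4, -⟩
  · omega
  · exact h4

end Groth.Agent.Helper16.FFW
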