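import Groth.Agent.Lib.Helper16.FFW.UnifA

/-!
# A generator `y` with `span {1, x, y}` containing uniformizers at all places
-/

set_option autoImplicit false

namespace Groth.Agent.Helper16.FFW

open FunFld Polynomial IntermediateField
open scoped WithZero

variable {k K : Type*} [Field k] [Field K] [Algebra k K]

theorem val_eq_of_sub_le (P : Place k K) {w t : K} (ht : P.1 t = WithZero.exp (-1 : ℤ))
    (h : P.1 (w - t) ≤ WithZero.exp (-2 : ℤ)) : P.1 w = WithZero.exp (-1 : ℤ) := by
  have : w = t + (w - t) := by ring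
  rw [this, Valuation.map_add_eq_of_lt_left, ht]
  rw [ht]
  exact lt_of_le_of_lt h (by rw [WithZero.exp_lt_exp]; norm_num)

theorem exp_neg_one_pow_le {e : ℕ} (he : 0 < e) :
    (WithZero.exp (-1 : ℤ) : ℤᵐ⁰) ^ e ≤ WithZero.exp (-1 : ℤ) := by
  rw [← WithZero.exp_nsmul, WithZero.exp_le_exp]
  simp only [nsmul_eq_mul]
  have : (1 : ℤ) ≤ e := by exact_mod_cast he
  linarith

theorem exists_generator_span [IsAlgClosed k] (hK : IsFunctionField k K) (x : K)
    (hsep : Algebra.IsSeparable (IntermediateField.adjoin k ({x} : Set K)) K) :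
    ∃ y : K, IntermediateField.adjoin k ({x, y} : Set K) = ⊤ ∧
      ∀ P : Place k K, ∃ f ∈ Submodule.span k ({1, x, y} : Set K),
        P.1 f = WithZero.exp (-1 : ℤ) := by
  classical
  set F := IntermediateField.adjoin k ({x} : Set K) with hF
  -- x transcendental
  have hxtr : Transcendental k x := by
    intro hxalg
    obtain ⟨⟨x₀, hx₀, -⟩, -⟩ := hK
    apply hx₀
    haveI : Algebra.IsAlgebraic k F := IntermediateField.isAlgebraic_adjoin_simple hxalg.isIntegral
    haveI : Algebra.IsAlgebraic F K := Algebra.IsSeparable.isAlgebraic F K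
    exact (Algebra.IsAlgebraic.trans k F K).isAlgebraic x₀
  haveI hfin : FiniteDimensional F K := FF.finite_of_transcendental hK hxtr
  have hFF : IsFunctionField k F := FF.isFunctionField_intermediateField hK F
    ⟨x, IntermediateField.mem_adjoin_simple_self k x, hxtr⟩
  have hR : {Q : Place k K | ¬ Function.Surjective (Q.1.comap (algebraMap F K))}.Finite :=
    finite_ramified hFF
  have hpoles : {Q : Place k K | 1 < Q.1 x}.Finite := by
    refine (finite_support_ord hK.1 x).subset ?_
    intro Q hQ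
    have hx0 : x ≠ 0 := by
      rintro rfl
      simp at hQ
    have := (one_lt_val_iff' Q hx0).1 hQ
    simp only [Function.mem_support]
    omega
  set S : Finset (Place k K) := (hR.union hpoles).toFinset with hS
  have hSmem : ∀ Q : Place k K, Q ∉ S →
      Function.Surjective (Q.1.comap (algebraMap F K)) ∧ Q.1 x ≤ 1 := by
    intro Q hQ
    rw [hS, Set.Finite.mem_toFinset, Set.mem_union, not_or] at hQ
    exact ⟨not_not.1 hQ.1, not_lt.1 hQ.2⟩
  -- the places below
  choose Pb eb hPb using fun Q : Place k K => exists_isOverWith (K := F) (K' := K) hFF.1 Q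
  set T : Finset (Place k F) := S.image Pb with hT
  choose unifF hunifF using fun P : Place k F => Place.exists_uniformizer P
  obtain ⟨w, hw⟩ := weak_approx (fun i : T => i.1) Subtype.val_injective (fun i => unifF i.1)
    (fun _ => (-2 : ℤ))
  have hwval : ∀ Q ∈ S, (Pb Q).1 w = WithZero.exp (-1 : ℤ) := by
    intro Q hQ
    have hmem : Pb Q ∈ T := Finset.mem_image_of_mem _ hQ
    exact val_eq_of_sub_le _ (hunifF _) (hw ⟨Pb Q, hmem⟩)
  set w₀ : F := if w = 0 then 1 else w with hw₀
  have hw₀ne : w₀ ≠ 0 := by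
    rw [hw₀]; split_ifs with h
    · exact one_ne_zero
    · exact h
  have hw₀val : ∀ Q ∈ S, Q.1 (algebraMap F K w₀) ≤ WithZero.exp (-1 : ℤ) := by
    intro Q hQ
    have h1 := hwval Q hQ
    have hwne : w ≠ 0 := by
      rintro rfl
      rw [map_zero] at h1
      exact WithZero.exp_ne_zero h1.symm
    rw [hw₀, if_neg hwne, hPb Q w, h1]
    exact exp_neg_one_pow_le (isOverWith_pos (hPb Q))
  -- primitive element
  obtain ⟨z, hz⟩ := Field.exists_primitive_element F K
  obtain ⟨M, hM⟩ := Finset.exists_le (S.image fun Q => WithZero.log (Q.1 z))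
  set N : ℕ := (M + 2).toNat with hN
  set W : K := algebraMap F K w₀ with hW
  set z' : K := z * W ^ N with hz'
  have hz'val : ∀ Q ∈ S, Q.1 z' ≤ WithZero.exp (-2 : ℤ) := by
    intro Q hQ
    rw [hz', map_mul, map_pow]
    have h1 : Q.1 z ≤ WithZero.exp M :=
      le_trans WithZero.le_exp_log (WithZero.exp_le_exp.mpr (hM _ (Finset.mem_image_of_mem _ hQ)))
    have h2 : Q.1 W ^ N ≤ WithZero.exp (-(N : ℤ)) := by
      calc Q.1 W ^ N ≤ WithZero.exp (-1 : ℤ) ^ N := pow_le_pow_left₀ zero_le (hw₀val Q hQ) N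
        _ = WithZero.exp (-(N : ℤ)) := by rw [← WithZero.exp_nsmul]; simp
    calc Q.1 z * Q.1 W ^ N ≤ WithZero.exp M * WithZero.exp (-(N : ℤ)) := mul_le_mul' h1 h2
      _ = WithZero.exp (M - N) := by rw [← WithZero.exp_add]; ring_nf
      _ ≤ WithZero.exp (-2 : ℤ) := by rw [WithZero.exp_le_exp]; omega
  have hz'prim : F⟮z'⟯ = ⊤ := by
    rw [eq_top_iff, ← hz]
    rw [IntermediateField.adjoin_simple_le_iff]
    have hWmem : (W ^ N)⁻¹ ∈ F⟮z'⟯ := by
      have : (W ^ N)⁻¹ = algebraMap F K ((w₀ ^ N)⁻¹) := by rw [map_inv₀, map_pow]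
      rw [this]; exact IntermediateField.algebraMap_mem _ _
    have hWne : W ^ N ≠ 0 := pow_ne_zero _ ((_root_.map_ne_zero _).2 hw₀ne)
    have : z = z' * (W ^ N)⁻¹ := by rw [hz', mul_assoc, mul_inv_cancel₀ hWne, mul_one]
    rw [this]
    exact mul_mem (IntermediateField.mem_adjoin_simple_self F z') hWmem
  choose unifK hunifK using fun Q : Place k K => Place.exists_uniformizer Q
  obtain ⟨t₁, ht₁⟩ := weak_approx (fun i : S => i.1) Subtype.val_injective (fun i => unifK i.1)
    (fun _ => (-2 : ℤ))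
  have ht₁val : ∀ Q ∈ S, Q.1 t₁ = WithZero.exp (-1 : ℤ) := fun Q hQ =>
    val_eq_of_sub_le _ (hunifK _) (ht₁ ⟨Q, hQ⟩)
  have halg : Algebra.IsAlgebraic F K := Algebra.IsSeparable.isAlgebraic F K
  have hfinIF : Finite (IntermediateField F K) :=
    Field.finite_intermediateField_of_exists_primitive_element F K ⟨z, hz⟩
  have hinf : Infinite k := IsAlgClosed.instInfinite
  obtain ⟨a, a', hne, heq⟩ := Finite.exists_ne_map_eq_of_infinite
    (fun a : k => F⟮t₁ + algebraMap k K a * z'⟯)
  have hprim : F⟮t₁ + algebraMap k K a * z'⟯ = ⊤ := by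
    rw [eq_top_iff, ← hz'prim, IntermediateField.adjoin_simple_le_iff]
    have h1 : t₁ + algebraMap k K a * z' ∈ F⟮t₁ + algebraMap k K a * z'⟯ :=
      mem_adjoin_simple_self F _
    have h2 : t₁ + algebraMap k K a' * z' ∈ F⟮t₁ + algebraMap k K a * z'⟯ := by
      have : F⟮t₁ + algebraMap k K a * z'⟯ = F⟮t₁ + algebraMap k K a' * z'⟯ := heq
      rw [this]; exact mem_adjoin_simple_self F _
    have h3 := sub_mem h1 h2
    have h4 : (t₁ + algebraMap k K a * z') - (t₁ + algebraMap k K a' * z') =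
        algebraMap k K (a - a') * z' := by rw [map_sub]; ring
    rw [h4] at h3
    have h5 : algebraMap k K (a - a') ≠ 0 := (_root_.map_ne_zero _).2 (sub_ne_zero.2 hne)
    have h6 : (algebraMap k K (a - a'))⁻¹ ∈ F⟮t₁ + algebraMap k K a * z'⟯ := by
      have h7 : (algebraMap k K (a - a'))⁻¹ = algebraMap F K (algebraMap k F (a - a')⁻¹) := by
        rw [← IsScalarTower.algebraMap_apply, map_inv₀]
      rw [h7]
      exact IntermediateField.algebraMap_mem _ _
    have h8 := mul_mem h6 h3
    rwa [show (algebraMap k K (a - a'))⁻¹ * (algebraMap k K (a - a') * z') = z' by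
      rw [← mul_assoc, inv_mul_cancel₀ h5, one_mul]] at h8
  set y : K := t₁ + algebraMap k K a * z' with hy
  have hadj : IntermediateField.adjoin k ({x, y} : Set K) = ⊤ := by
    have h := IntermediateField.adjoin_adjoin_left k ({x} : Set K) ({y} : Set K)
    rw [show ({x, y} : Set K) = {x} ∪ {y} from Set.insert_eq _ _, ← h, hprim,
      IntermediateField.restrictScalars_top]
  refine ⟨y, hadj, fun P => ?_⟩
  by_cases hP : P ∈ S
  · refine ⟨y, Submodule.subset_span (by simp), ?_⟩
    have h1 := ht₁val P hP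
    have h2 : P.1 (algebraMap k K a * z') ≤ WithZero.exp (-2 : ℤ) := by
      rw [map_mul]
      calc P.1 (algebraMap k K a) * P.1 z' ≤ 1 * WithZero.exp (-2 : ℤ) :=
            mul_le_mul' (P.2.1 a) (hz'val P hP)
        _ = _ := one_mul _
    rw [hy, Valuation.map_add_eq_of_lt_left, h1]
    rw [h1]
    exact lt_of_le_of_lt h2 (WithZero.exp_lt_exp.2 (by norm_num))
  · obtain ⟨hsurj, hx1⟩ := hSmem P hP
    obtain ⟨c, hc⟩ := exists_const_uniformizer hK P x hx1 hsurj
    refine ⟨x - algebraMap k K c, ?_, hc⟩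
    rw [Algebra.algebraMap_eq_smul_one]
    exact sub_mem (Submodule.subset_span (by simp))
      (Submodule.smul_mem _ _ (Submodule.subset_span (by simp)))

end Groth.Agent.Helper16.FFW
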