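import Groth.Agent.Lib.Helper16.FFW.Ext7

/-!
# Unramifiedness via reduction of the minimal polynomial, part 1: valuations of polynomial values
-/

set_option autoImplicit false

namespace Groth.Agent.Helper16.FFW

open FunFld Polynomial IntermediateField
open scoped WithZero

variable {k K K' : Type*} [Field k] [Field K] [Field K'] [Algebra k K] [Algebra K K'] [Algebra k K']
  [IsScalarTower k K K']

/-- evaluation at `y : K'` of a polynomial with coefficients in `O_P` -/
noncomputable def evalO (P : Place k K) (y : K') : P.O[X] →+* K' :=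
  (aeval y : K[X] →ₐ[K] K').toRingHom.comp (Polynomial.mapRingHom (algebraMap P.O K))

omit [Algebra k K'] [IsScalarTower k K K'] in
theorem evalO_apply (P : Place k K) (y : K') (r : P.O[X]) :
    evalO P y r = aeval y (r.map (algebraMap P.O K)) := rfl

omit [Algebra k K'] [IsScalarTower k K K'] in
theorem evalO_C (P : Place k K) (y : K') (a : P.O) :
    evalO P y (C a) = algebraMap K K' (a : K) := by
  simp [evalO_apply]

omit [Algebra k K'] [IsScalarTower k K K'] in
theorem evalO_X (P : Place k K) (y : K') : evalO P y (X : P.O[X]) = y := by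
  simp [evalO_apply]

omit [Algebra k K'] [IsScalarTower k K K'] in
theorem evalO_eq_sum (P : Place k K) (y : K') (r : P.O[X]) :
    evalO P y r = ∑ i ∈ Finset.range (r.natDegree + 1), algebraMap K K' (r.coeff i : K) * y ^ i := by
  rw [evalO_apply, aeval_eq_sum_range' (n := r.natDegree + 1)]
  · refine Finset.sum_congr rfl fun i _ => ?_
    rw [coeff_map, Algebra.smul_def]
    rfl
  · exact lt_of_le_of_lt (natDegree_map_le) (Nat.lt_succ_self _)

section Over

variable {Q : Place k K'} {P : Place k K} {e : ℕ} (h : IsOverWith Q P e)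
include h

theorem val_evalO_le_one {y : K'} (hy : Q.1 y ≤ 1) (r : P.O[X]) : Q.1 (evalO P y r) ≤ 1 := by
  rw [evalO_eq_sum]
  apply Valuation.map_sum_le
  intro i _
  rw [map_mul, map_pow]
  have h1 : Q.1 (algebraMap K K' (r.coeff i : K)) ≤ 1 :=
    (isOverWith_le_one_iff h _).2 ((Place.mem_O_iff P _).1 (r.coeff i).2)
  exact mul_le_one' h1 (pow_le_one' hy i)

theorem val_evalO_lt_one {y : K'} (hy : Q.1 y ≤ 1) (r : P.O[X])
    (hr : r.map (IsLocalRing.residue P.O) = 0) : Q.1 (evalO P y r) < 1 := by
  rw [evalO_eq_sum]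
  apply Valuation.map_sum_lt _ one_ne_zero
  intro i _
  rw [map_mul, map_pow]
  have hc : IsLocalRing.residue P.O (r.coeff i) = 0 := by
    have := congrArg (fun q => q.coeff i) hr
    simpa [coeff_map] using this
  have h1 : Q.1 (algebraMap K K' (r.coeff i : K)) < 1 :=
    (isOverWith_lt_one_iff h _).2 ((Place.residue_eq_zero_iff P _).1 hc)
  calc Q.1 (algebraMap K K' (r.coeff i : K)) * Q.1 y ^ i
      ≤ Q.1 (algebraMap K K' (r.coeff i : K)) * 1 := by
        gcongr; exact pow_le_one' hy i
    _ < 1 := by rw [mul_one]; exact h1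

/-- Polynomials with coprime reductions cannot both vanish at `Q`. -/
theorem not_both_lt_one_of_isCoprime {y : K'} (hy : Q.1 y ≤ 1) (r₁ r₂ : P.O[X])
    (hcop : IsCoprime (r₁.map (IsLocalRing.residue P.O)) (r₂.map (IsLocalRing.residue P.O))) :
    ¬ (Q.1 (evalO P y r₁) < 1 ∧ Q.1 (evalO P y r₂) < 1) := by
  rintro ⟨h1, h2⟩
  obtain ⟨u', v', huv⟩ := hcop
  obtain ⟨u, rfl⟩ := Polynomial.map_surjective _ (IsLocalRing.residue_surjective (R := P.O)) u'
  obtain ⟨v, rfl⟩ := Polynomial.map_surjective _ (IsLocalRing.residue_surjective (R := P.O)) v'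
  set m : P.O[X] := u * r₁ + v * r₂ - 1 with hm
  have hm0 : m.map (IsLocalRing.residue P.O) = 0 := by
    rw [hm, Polynomial.map_sub, Polynomial.map_add, Polynomial.map_mul, Polynomial.map_mul, huv,
      Polynomial.map_one, sub_self]
  have h3 : Q.1 (evalO P y m) < 1 := val_evalO_lt_one h hy m hm0
  have h4 : (1 : K') = evalO P y u * evalO P y r₁ + evalO P y v * evalO P y r₂ - evalO P y m := by
    rw [hm, map_sub, map_add, map_mul, map_mul, map_one]
    ring
  have h5 : Q.1 (1 : K') < 1 := by
    rw [h4]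
    refine lt_of_le_of_lt (Valuation.map_sub _ _ _) (max_lt ?_ h3)
    refine lt_of_le_of_lt (Valuation.map_add _ _ _) (max_lt ?_ ?_)
    · rw [map_mul]
      calc Q.1 (evalO P y u) * Q.1 (evalO P y r₁) ≤ 1 * Q.1 (evalO P y r₁) := by
            gcongr; exact val_evalO_le_one h hy u
        _ < 1 := by rw [one_mul]; exact h1
    · rw [map_mul]
      calc Q.1 (evalO P y v) * Q.1 (evalO P y r₂) ≤ 1 * Q.1 (evalO P y r₂) := by
            gcongr; exact val_evalO_le_one h hy v
        _ < 1 := by rw [one_mul]; exact h2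
  rw [map_one] at h5
  exact lt_irrefl _ h5

end Over

end Groth.Agent.Helper16.FFW
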