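import Groth.Agent.Lib.Helper16.FFW.Unram1

/-!
# Unramifiedness via reduction, part 2: residue degree bound
-/

set_option autoImplicit false

namespace Groth.Agent.Helper16.FFW

open FunFld Polynomial IntermediateField
open scoped WithZero

variable {k K K' : Type*} [Field k] [Field K] [Field K'] [Algebra k K] [Algebra K K'] [Algebra k K']
  [IsScalarTower k K K']

/-- If `g(y)` vanishes at `Q | P` with `ḡ` irreducible over the residue field of `P`, then
`deg Q ≥ deg ḡ · deg P`. -/
theorem natDegree_mul_deg_le (hK' : IsWeakFF k K') {Q : Place k K'} {P : Place k K} {e : ℕ}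
    (h : IsOverWith Q P e) {y : K'} (hy : Q.1 y ≤ 1) (g : P.O[X])
    (hg : Irreducible (g.map (IsLocalRing.residue P.O))) (hgQ : Q.1 (evalO P y g) < 1) :
    (g.map (IsLocalRing.residue P.O)).natDegree * P.deg ≤ Q.deg := by
  classical
  by_cases hfin : FiniteDimensional k (IsLocalRing.ResidueField P.O)
  swap
  · have : P.deg = 0 := Module.finrank_of_not_finite hfin
    rw [this, mul_zero]; exact Nat.zero_le _
  have hfinQ := Place.finiteDimensional_residueField hK' Q
  set d := (g.map (IsLocalRing.residue P.O)).natDegree with hd
  let b := Module.finBasis k (IsLocalRing.ResidueField P.O)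
  have hlift : ∀ i, ∃ z : P.O, IsLocalRing.residue P.O z = b i := fun i =>
    IsLocalRing.residue_surjective (b i)
  choose a ha using hlift
  -- the family in `O_Q`
  have hwmem : ∀ (i : Fin (Module.finrank k (IsLocalRing.ResidueField P.O))) (j : Fin d),
      algebraMap K K' (a i : K) * y ^ (j : ℕ) ∈ Q.O := by
    intro i j
    rw [Place.mem_O_iff, map_mul, map_pow]
    exact mul_le_one' ((isOverWith_le_one_iff h _).2 ((Place.mem_O_iff P _).1 (a i).2))
      (pow_le_one' hy _)
  let w : Fin (Module.finrank k (IsLocalRing.ResidueField P.O)) × Fin d → Q.O :=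
    fun ij => ⟨algebraMap K K' (a ij.1 : K) * y ^ (ij.2 : ℕ), hwmem ij.1 ij.2⟩
  have hli : LinearIndependent k (fun ij => IsLocalRing.residue Q.O (w ij)) := by
    rw [Fintype.linearIndependent_iff]
    intro c hsum
    -- coefficients downstairs
    set s : Fin d → P.O := fun j => ∑ i, c (i, j) • a i with hs
    set r : P.O[X] := ∑ j : Fin d, C (s j) * X ^ (j : ℕ) with hr
    -- the element upstairs
    set u' : Q.O := ∑ ij, c ij • w ij with hu'
    have hres : IsLocalRing.residue Q.O u' = 0 := by
      rw [hu', map_sum, ← hsum]
      refine Finset.sum_congr rfl fun ij _ => ?_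
      exact Place.residue_smul Q (c ij) (w ij)
    have hu'val : Q.1 ((u' : Q.O) : K') < 1 := (Place.residue_eq_zero_iff Q u').1 hres
    have hscoe : ∀ j, ((s j : P.O) : K) = ∑ i, c (i, j) • (a i : K) := by
      intro j
      rw [hs]
      simp only
      rw [← P.O.subtype_apply, map_sum]
      refine Finset.sum_congr rfl fun i _ => ?_
      exact Place.coe_smul_O P (c (i, j)) (a i)
    have hu'coe : ((u' : Q.O) : K') = evalO P y r := by
      rw [hu', ← Q.O.subtype_apply, map_sum, hr, map_sum, Fintype.sum_prod_type, Finset.sum_comm]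
      refine Finset.sum_congr rfl fun j _ => ?_
      rw [map_mul, map_pow, evalO_C, evalO_X, hscoe, map_sum, Finset.sum_mul]
      refine Finset.sum_congr rfl fun i _ => ?_
      rw [Q.O.subtype_apply, Place.coe_smul_O Q (c (i, j)) (w (i, j))]
      show c (i, j) • (algebraMap K K' (a i : K) * y ^ (j : ℕ)) =
        algebraMap K K' (c (i, j) • (a i : K)) * y ^ (j : ℕ)
      rw [Algebra.smul_def, Algebra.smul_def, map_mul, ← IsScalarTower.algebraMap_apply, mul_assoc]
    rw [hu'coe] at hu'val
    -- the reduction of `r` vanishes
    have hrbar : r.map (IsLocalRing.residue P.O) = 0 := by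
      by_contra hne
      have hdeg : (r.map (IsLocalRing.residue P.O)).natDegree < d := by
        rw [natDegree_lt_iff_degree_lt hne]
        have : r.map (IsLocalRing.residue P.O) =
            ∑ j : Fin d, C (IsLocalRing.residue P.O (s j)) * X ^ (j : ℕ) := by
          rw [hr, Polynomial.map_sum]
          refine Finset.sum_congr rfl fun j _ => ?_
          rw [Polynomial.map_mul, Polynomial.map_pow, map_C, map_X]
        rw [this]
        exact degree_sum_fin_lt _
      have hndvd : ¬ (g.map (IsLocalRing.residue P.O)) ∣ (r.map (IsLocalRing.residue P.O)) :=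
        fun hdvd => hne (eq_zero_of_dvd_of_natDegree_lt hdvd hdeg)
      have hcop : IsCoprime (g.map (IsLocalRing.residue P.O)) (r.map (IsLocalRing.residue P.O)) :=
        (hg.coprime_iff_not_dvd).2 hndvd
      exact not_both_lt_one_of_isCoprime h hy g r hcop ⟨hgQ, hu'val⟩
    -- extract coefficients
    have hcoef : ∀ j : Fin d, IsLocalRing.residue P.O (s j) = 0 := by
      intro j
      have := congrArg (fun q => q.coeff (j : ℕ)) hrbar
      simp only [coeff_map, coeff_zero] at this
      rw [hr, finset_sum_coeff] at this
      rw [Finset.sum_eq_single j] at this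
      · simpa using this
      · intro j' _ hne
        rw [coeff_C_mul_X_pow, if_neg]
        exact fun h => hne (Fin.ext h.symm)
      · intro h; exact absurd (Finset.mem_univ j) h
    intro ij
    obtain ⟨i, j⟩ := ij
    have h1 := hcoef j
    rw [hs] at h1
    simp only at h1
    rw [map_sum] at h1
    have h2 : ∑ i, c (i, j) • b i = 0 := by
      rw [← h1]
      refine Finset.sum_congr rfl fun i _ => ?_
      rw [Place.residue_smul, ha]
    exact (Fintype.linearIndependent_iff.1 b.linearIndependent) (fun i => c (i, j)) h2 i
  have hcard := hli.fintype_card_le_finrank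
  rw [Fintype.card_prod, Fintype.card_fin, Fintype.card_fin] at hcard
  rw [mul_comm]
  exact hcard

end Groth.Agent.Helper16.FFW
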