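import Groth.Agent.Lib.Helper16.FFW.Unram2

/-!
# Unramifiedness via reduction, part 3: existence of places over irreducible factors
-/

set_option autoImplicit false

namespace Groth.Agent.Helper16.FFW

open FunFld Polynomial IntermediateField
open scoped WithZero

variable {k K K' : Type*} [Field k] [Field K] [Field K'] [Algebra k K] [Algebra K K'] [Algebra k K']
  [IsScalarTower k K K']

theorem exists_place_over_factor (hK : IsWeakFF k K) [FiniteDimensional K K'] (P : Place k K)
    {y : K'} (f : P.O[X]) (hfm : f.Monic) (hfmin : f.map (algebraMap P.O K) = minpoly K y)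
    (g : P.O[X]) (hg : Irreducible (g.map (IsLocalRing.residue P.O)))
    (hgf : g.map (IsLocalRing.residue P.O) ∣ f.map (IsLocalRing.residue P.O)) :
    ∃ (Q : Place k K') (e : ℕ), IsOverWith Q P e ∧ Q.1 y ≤ 1 ∧ Q.1 (evalO P y g) < 1 := by
  classical
  have hK' : IsWeakFF k K' := isWeakFF_of_finite hK
  let A : Subring K' := (evalO P y).range
  obtain ⟨π, hπ⟩ := Place.exists_uniformizer P
  have hπ0 : π ≠ 0 := by
    rintro rfl
    rw [map_zero] at hπ
    exact WithZero.exp_ne_zero hπ.symm
  have hπ1 : P.1 π < 1 := by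
    rw [hπ, ← WithZero.exp_zero]; exact WithZero.exp_lt_exp.mpr (by norm_num)
  let πO : P.O := ⟨π, (Place.mem_O_iff P _).2 hπ1.le⟩
  have hπres : IsLocalRing.residue P.O πO = 0 := (Place.residue_eq_zero_iff P πO).2 hπ1
  let πA : A := ⟨evalO P y (C πO), ⟨_, rfl⟩⟩
  let gA : A := ⟨evalO P y g, ⟨_, rfl⟩⟩
  have hI : Ideal.span ({πA, gA} : Set A) ≠ ⊤ := by
    intro htop
    rw [Ideal.eq_top_iff_one, Ideal.mem_span_pair] at htop
    obtain ⟨⟨a', ⟨a, rfl⟩⟩, ⟨b', ⟨b, rfl⟩⟩, hab⟩ := htop
    have hab' : evalO P y a * evalO P y (C πO) + evalO P y b * evalO P y g = 1 :=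
      congrArg Subtype.val hab
    set h₀ : P.O[X] := a * C πO + b * g - 1 with hh₀
    have hev : evalO P y h₀ = 0 := by
      rw [hh₀, map_sub, map_add, map_mul, map_mul, map_one, hab', sub_self]
    rw [evalO_apply] at hev
    have hdvd : f.map (algebraMap P.O K) ∣ h₀.map (algebraMap P.O K) := by
      rw [hfmin]; exact minpoly.dvd K y hev
    have hinj : Function.Injective (algebraMap P.O K) := Subtype.val_injective
    have hdvd' : f ∣ h₀ := (Polynomial.map_dvd_map _ hinj hfm).1 hdvd
    have hdvd'' : g.map (IsLocalRing.residue P.O) ∣ h₀.map (IsLocalRing.residue P.O) :=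
      hgf.trans (Polynomial.map_dvd _ hdvd')
    rw [hh₀, Polynomial.map_sub, Polynomial.map_add, Polynomial.map_mul, Polynomial.map_mul, map_C,
      hπres, map_zero, mul_zero, zero_add, Polynomial.map_one] at hdvd''
    have h1 : g.map (IsLocalRing.residue P.O) ∣ 1 := by
      have h2 : g.map (IsLocalRing.residue P.O) ∣
          b.map (IsLocalRing.residue P.O) * g.map (IsLocalRing.residue P.O) := Dvd.intro_left _ rfl
      have := dvd_sub h2 hdvd''
      simpa using this
    exact hg.not_isUnit (isUnit_of_dvd_one h1)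
  obtain ⟨B, hAB, hB⟩ := Ideal.image_subset_nonunits_valuationSubring _ hI
  have hAB' : ∀ r : P.O[X], evalO P y r ∈ B := fun r => hAB ⟨r, rfl⟩
  have hBk : ∀ c : k, algebraMap k K' c ∈ B := by
    intro c
    have : algebraMap k K' c = evalO P y (C ⟨algebraMap k K c, (Place.mem_O_iff P _).2 (P.2.1 c)⟩) := by
      rw [evalO_C, ← IsScalarTower.algebraMap_apply]
    rw [this]; exact hAB' _
  have hπtr : Transcendental k (algebraMap K K' π) :=
    (transcendental_algebraMap_iff (algebraMap K K').injective).2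
      (Place.transcendental_of_val_ne_one hK P hπ0 hπ1.ne)
  have hπlt : B.valuation (algebraMap K K' π) < 1 := by
    rw [← ValuationSubring.mem_nonunits_iff]
    have : algebraMap K K' π = ((πA : A) : K') := (evalO_C P y πO).symm
    rw [this]
    exact hB ⟨πA, Ideal.subset_span (by simp), rfl⟩
  obtain ⟨Q, hQle, hQlt⟩ := exists_place_of_valuationSubring hK' B hBk hπtr hπlt
  obtain ⟨P', e', he'⟩ := exists_isOverWith hK Q
  have hPP' : P = P' := by
    apply Place.eq_of_le_one_imp
    intro z hz
    have : algebraMap K K' z = evalO P y (C ⟨z, (Place.mem_O_iff P _).2 hz⟩) :=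
      (evalO_C P y ⟨z, (Place.mem_O_iff P _).2 hz⟩).symm
    have h1 : Q.1 (algebraMap K K' z) ≤ 1 := by
      rw [hQle, this]; exact hAB' _
    exact (isOverWith_le_one_iff he' z).1 h1
  subst hPP'
  refine ⟨Q, e', he', ?_, ?_⟩
  · rw [hQle]
    have : y = evalO P y X := (evalO_X P y).symm
    rw [this]; exact hAB' _
  · rw [hQlt, ← ValuationSubring.mem_nonunits_iff]
    exact hB ⟨gA, Ideal.subset_span (by simp), rfl⟩

end Groth.Agent.Helper16.FFW
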