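import Groth.Agent.Lib.Helper16.FFW.Unram3

/-!
# Unramifiedness via reduction, part 4: all ramification indices are one at a good place
-/

set_option autoImplicit false

namespace Groth.Agent.Helper16.FFW

open FunFld Polynomial IntermediateField UniqueFactorizationMonoid
open scoped WithZero

variable {k K K' : Type*} [Field k] [Field K] [Field K'] [Algebra k K] [Algebra K K'] [Algebra k K']
  [IsScalarTower k K K']

theorem ramIdx_eq_one_of_good [FiniteDimensional K K'] (hK : IsFunctionField k K) (P : Place k K)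
    {y : K'} (hy : K⟮y⟯ = ⊤) (f : P.O[X]) (hfm : f.Monic)
    (hfmin : f.map (algebraMap P.O K) = minpoly K y)
    (hsq : Squarefree (f.map (IsLocalRing.residue P.O))) :
    ∀ Q : Place k K', IsOver Q P → ramIdx Q P = 1 := by
  classical
  have hKw : IsWeakFF k K := hK.1
  have hK' : IsWeakFF k K' := isWeakFF_of_finite hKw
  set res := IsLocalRing.residue P.O with hres
  set fbar := f.map res with hfbar
  have hfbm : fbar.Monic := hfm.map _
  have hfb0 : fbar ≠ 0 := hfbm.ne_zero
  have hint : IsIntegral K y := IsIntegral.of_finite K y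
  -- the degree
  have hn : Module.finrank K K' = fbar.natDegree := by
    rw [← IntermediateField.finrank_top', ← hy, IntermediateField.adjoin.finrank hint, ← hfmin,
      hfm.natDegree_map, hfbar, hfm.natDegree_map]
  -- the factors
  set S := normalizedFactors fbar with hS
  have hSirr : ∀ g ∈ S, Irreducible g := fun g hg => irreducible_of_normalized_factor g hg
  have hSdvd : ∀ g ∈ S, g ∣ fbar := fun g hg => dvd_of_mem_normalizedFactors hg
  have hSnodup : S.Nodup := (squarefree_iff_nodup_normalizedFactors hfb0).1 hsq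
  have hSdeg : (S.map natDegree).sum = fbar.natDegree := by
    have h0 : (0 : (IsLocalRing.ResidueField P.O)[X]) ∉ S := fun h => (hSirr 0 h).ne_zero rfl
    rw [← natDegree_multiset_prod _ h0]
    exact natDegree_eq_of_degree_eq (degree_eq_degree_of_associated (prod_normalizedFactors hfb0))
  set T₀ := S.toFinset with hT₀
  have hT₀sum : ∑ g ∈ T₀, g.natDegree = fbar.natDegree := by
    rw [← hSdeg, Finset.sum_eq_multiset_sum, hT₀, Multiset.toFinset_val,
      Multiset.dedup_eq_self.2 hSnodup]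
  -- choose places
  have hex : ∀ gb ∈ T₀, ∃ (Q : Place k K') (g : P.O[X]), g.map res = gb ∧ IsOver Q P ∧ Q.1 y ≤ 1 ∧
      Q.1 (evalO P y g) < 1 ∧ gb.natDegree * P.deg ≤ Q.deg := by
    intro gb hgb
    rw [hT₀, Multiset.mem_toFinset] at hgb
    obtain ⟨g, rfl⟩ := Polynomial.map_surjective _ (IsLocalRing.residue_surjective (R := P.O)) gb
    obtain ⟨Q, e, he, hy1, hg1⟩ :=
      exists_place_over_factor hKw P f hfm hfmin g (hSirr _ hgb) (hSdvd _ hgb)
    exact ⟨Q, g, rfl, ⟨e, he⟩, hy1, hg1, natDegree_mul_deg_le hK' he hy1 g (hSirr _ hgb) hg1⟩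
  haveI : Nonempty (Place k K') := exists_place' hK'
  choose! Qf gf hgf hQover hQy hQg hQdeg using hex
  have hinj : Set.InjOn Qf (T₀ : Set ((IsLocalRing.ResidueField P.O)[X])) := by
    intro g₁ hg₁ g₂ hg₂ hQQ
    by_contra hne
    have hm₁ : g₁ ∈ S := by rwa [hT₀, Finset.mem_coe, Multiset.mem_toFinset] at hg₁
    have hm₂ : g₂ ∈ S := by rwa [hT₀, Finset.mem_coe, Multiset.mem_toFinset] at hg₂
    have hcop : IsCoprime g₁ g₂ := by
      rw [(hSirr _ hm₁).coprime_iff_not_dvd]
      intro hdvd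
      have hassoc := (hSirr _ hm₁).associated_of_dvd (hSirr _ hm₂) hdvd
      have := normalize_eq_normalize_iff.2 ⟨hassoc.dvd, hassoc.symm.dvd⟩
      rw [normalize_normalized_factor _ hm₁, normalize_normalized_factor _ hm₂] at this
      exact hne this
    obtain ⟨e, he⟩ := hQover g₁ hg₁
    have h1 := hQg g₁ hg₁
    have h2 := hQg g₂ hg₂
    rw [← hQQ] at h2
    rw [← hgf g₁ hg₁, ← hgf g₂ hg₂] at hcop
    exact not_both_lt_one_of_isCoprime he (hQy g₁ hg₁) _ _ hcop ⟨h1, h2⟩
  set T := T₀.image Qf with hT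
  have hTsum : Module.finrank K K' * P.deg ≤ ∑ Q ∈ T, Q.deg := by
    rw [hT, Finset.sum_image hinj, hn, ← hT₀sum, Finset.sum_mul]
    exact Finset.sum_le_sum fun g hg => hQdeg g hg
  -- the sum formula
  obtain ⟨hfinset, hsum⟩ := sum_ramIdx_mul_deg (K' := K') hK P
  set Qs := hfinset.toFinset with hQsdef
  have hQs : ∀ Q, Q ∈ Qs ↔ IsOver Q P := by
    intro Q; rw [hQsdef, Set.Finite.mem_toFinset]; rfl
  have hS' := hsum Qs hQs
  have hTQs : T ⊆ Qs := by
    intro Q hQ
    rw [hT, Finset.mem_image] at hQ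
    obtain ⟨g, hg, rfl⟩ := hQ
    exact (hQs _).2 (hQover g hg)
  intro Q₀ hQ₀
  by_contra hne
  have hpos : ∀ Q ∈ Qs, 1 ≤ ramIdx Q P := fun Q hQ =>
    isOverWith_pos (isOverWith_ramIdx ((hQs Q).1 hQ))
  have hQ₀mem : Q₀ ∈ Qs := (hQs Q₀).2 hQ₀
  have he₀ : 2 ≤ ramIdx Q₀ P := by
    have := hpos Q₀ hQ₀mem
    omega
  have hdeg₀ : 0 < Q₀.deg := Place.deg_pos hK' Q₀
  have hlt : ∑ Q ∈ Qs, (if Q ∈ T then Q.deg else 0) < ∑ Q ∈ Qs, ramIdx Q P * Q.deg := by
    apply Finset.sum_lt_sum
    · intro Q hQ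
      split_ifs
      · exact Nat.le_mul_of_pos_left _ (hpos Q hQ)
      · exact Nat.zero_le _
    · refine ⟨Q₀, hQ₀mem, ?_⟩
      split_ifs
      · calc Q₀.deg < 2 * Q₀.deg := by omega
          _ ≤ ramIdx Q₀ P * Q₀.deg := Nat.mul_le_mul_right _ he₀
      · exact Nat.mul_pos (by omega) hdeg₀
  rw [Finset.sum_ite_mem, Finset.inter_eq_right.2 hTQs, hS'] at hlt
  omega

end Groth.Agent.Helper16.FFW
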