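import Groth.Agent.Lib.Helper16.FFW.Unram4

/-!
# Finiteness of ramification in finite separable extensions
-/

set_option autoImplicit false

namespace Groth.Agent.Helper16.FFW

open FunFld Polynomial IntermediateField
open scoped WithZero

variable {k K K' : Type*} [Field k] [Field K] [Field K'] [Algebra k K] [Algebra K K'] [Algebra k K']
  [IsScalarTower k K K']

/-- the places where all coefficients of a polynomial are integral -/
theorem finite_not_integral_coeffs (hK : IsWeakFF k K) (p : K[X]) :
    {P : Place k K | ¬ ∀ i, P.1 (p.coeff i) ≤ 1}.Finite := by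
  classical
  have hsub : {P : Place k K | ¬ ∀ i, P.1 (p.coeff i) ≤ 1} ⊆
      ⋃ z ∈ (p.coeffs : Set K), (Function.support fun P : Place k K => P.ord z) := by
    intro P hP
    simp only [Set.mem_setOf_eq, not_forall, not_le] at hP
    obtain ⟨i, hi⟩ := hP
    have hne : p.coeff i ≠ 0 := by
      intro h
      rw [h, map_zero] at hi
      exact absurd hi (by simp)
    simp only [Set.mem_iUnion]
    refine ⟨p.coeff i, Polynomial.coeff_mem_coeffs hne, ?_⟩
    simp only [Function.mem_support]
    have := (one_lt_val_iff' P hne).1 hi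
    omega
  refine Set.Finite.subset ?_ hsub
  exact Set.Finite.biUnion (Finset.finite_toSet _) (fun z _ => finite_support_ord hK z)

/-- lifting a polynomial with integral coefficients -/
theorem exists_lift_of_integral_coeffs (P : Place k K) (p : K[X]) (hp : ∀ i, P.1 (p.coeff i) ≤ 1) :
    p ∈ Polynomial.lifts (algebraMap P.O K) := by
  rw [Polynomial.lifts_iff_coeff_lifts]
  intro n
  exact ⟨⟨p.coeff n, (Place.mem_O_iff P _).2 (hp n)⟩, rfl⟩

theorem finite_ramified [FiniteDimensional K K'] [Algebra.IsSeparable K K']
    (hK : IsFunctionField k K) :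
    {Q : Place k K' | ¬ Function.Surjective (Q.1.comap (algebraMap K K'))}.Finite := by
  classical
  have hKw : IsWeakFF k K := hK.1
  obtain ⟨y, hy⟩ := Field.exists_primitive_element K K'
  set f₀ := minpoly K y with hf₀
  have hint : IsIntegral K y := IsIntegral.of_finite K y
  have hsep : f₀.Separable := Algebra.IsSeparable.isSeparable K y
  obtain ⟨u, v, huv⟩ := hsep
  set bad : Set (Place k K) := {P | ¬ ∀ i, P.1 (f₀.coeff i) ≤ 1} ∪ {P | ¬ ∀ i, P.1 (u.coeff i) ≤ 1} ∪
    {P | ¬ ∀ i, P.1 (v.coeff i) ≤ 1} with hbad
  have hbadfin : bad.Finite :=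
    ((finite_not_integral_coeffs hKw f₀).union (finite_not_integral_coeffs hKw u)).union
      (finite_not_integral_coeffs hKw v)
  have hgood : ∀ P : Place k K, P ∉ bad → ∀ Q : Place k K', IsOver Q P → ramIdx Q P = 1 := by
    intro P hP
    simp only [hbad, Set.mem_union, Set.mem_setOf_eq, not_or, not_not] at hP
    obtain ⟨⟨hPf, hPu⟩, hPv⟩ := hP
    obtain ⟨f, hfmap, -, hfm⟩ := Polynomial.lifts_and_natDegree_eq_and_monic
      (exists_lift_of_integral_coeffs P f₀ hPf) (minpoly.monic hint)
    obtain ⟨uL, huL⟩ := exists_lift_of_integral_coeffs P u hPu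
    obtain ⟨vL, hvL⟩ := exists_lift_of_integral_coeffs P v hPv
    have hinj : Function.Injective (algebraMap P.O K) := Subtype.val_injective
    have hrel : uL * f + vL * derivative f = 1 := by
      apply Polynomial.map_injective _ hinj
      rw [Polynomial.map_add, Polynomial.map_mul, Polynomial.map_mul, ← derivative_map,
        Polynomial.map_one]
      have h1 : uL.map (algebraMap P.O K) = u := huL
      have h2 : vL.map (algebraMap P.O K) = v := hvL
      rw [h1, h2, hfmap]
      exact huv
    have hsq : Squarefree (f.map (IsLocalRing.residue P.O)) := by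
      apply Polynomial.Separable.squarefree
      refine ⟨uL.map (IsLocalRing.residue P.O), vL.map (IsLocalRing.residue P.O), ?_⟩
      have := congrArg (Polynomial.map (IsLocalRing.residue P.O)) hrel
      rw [Polynomial.map_add, Polynomial.map_mul, Polynomial.map_mul, ← derivative_map,
        Polynomial.map_one] at this
      exact this
    exact ramIdx_eq_one_of_good hK P hy f hfm hfmap hsq
  have hsub : {Q : Place k K' | ¬ Function.Surjective (Q.1.comap (algebraMap K K'))} ⊆
      ⋃ P ∈ bad, {Q : Place k K' | IsOver Q P} := by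
    intro Q hQ
    obtain ⟨P, e, he⟩ := exists_isOverWith hKw Q
    simp only [Set.mem_iUnion, Set.mem_setOf_eq]
    refine ⟨P, ?_, ⟨e, he⟩⟩
    by_contra hPgood
    apply hQ
    have h1 := hgood P hPgood Q ⟨e, he⟩
    rw [ramIdx_eq he] at h1
    subst h1
    intro γ
    obtain ⟨x, hx⟩ := P.2.2 γ
    refine ⟨x, ?_⟩
    show Q.1 (algebraMap K K' x) = γ
    rw [he x, pow_one, hx]
  exact Set.Finite.subset
    (Set.Finite.biUnion hbadfin (fun P _ => (sum_ramIdx_mul_deg (K' := K') hK P).1)) hsub

end Groth.Agent.Helper16.FFW
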